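import Cfsg.Agent.Fus93.NormalFocal
import Mathlib.GroupTheory.Transfer

/-!
Lifts of automorphisms in a normal subsystem and the fixed point in a coset of `Z(U)`
-/

set_option autoImplicit false
set_option linter.style.haveILetI false

namespace Cfsg.Agent.Fus93.FixCentre

open Cfsg Cfsg.Agent.Fusion Cfsg.Agent.Fusion.NormalLift
open Cfsg.FusionSystem (normalizerIn centralizerIn)

variable {Ω : Type*} [Group Ω] {S T : Subgroup Ω} {F : FusionSystem S} {E : FusionSystem T} {p : ℕ}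
  [Finite S] [Fact p.Prime]

set_option maxHeartbeats 1600000 in
/-- The displacement of an element of `C_S(R)` under a map fixing `R` is a commutator of `C_S(R)`. -/
theorem exists_commutator (hS : IsPGroup p S) (hF : F.IsSaturated p) {R : Subgroup Ω}
    (hR : F.IsFullyCentralized R) {v w : Ω} (hv : v ∈ centralizerIn S R)
    {δ : Ω → Ω} (hδ : IsMap F (R ⊔ Subgroup.zpowers v) δ) (hfix : ∀ x ∈ R, δ x = x)
    (hw : w ∈ R) (hδv : δ v = v * w) :
    w ∈ centralizerIn S R ∧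
      ∃ x ∈ centralizerIn S R, ∃ c ∈ centralizerIn S R, w = x⁻¹ * (c * x * c⁻¹) := by
  have hvM : v ∈ R ⊔ Subgroup.zpowers v := Subgroup.mem_sup_right (Subgroup.mem_zpowers v)
  have hM' : δ '' (R : Set Ω) = (R : Set Ω) := (Set.image_congr hfix).trans (Set.image_id' _)
  have hwC : w ∈ centralizerIn S R := by
    have h1 : δ v ∈ centralizerIn S R := map_mem_centralizer hδ le_sup_left hM' hvM hv.2
    rw [hδv] at h1
    simpa using (centralizerIn S R).mul_mem ((centralizerIn S R).inv_mem hv) h1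
  refine ⟨hwC, ?_⟩
  set Z := R ⊓ centralizerIn S R with hZ
  set W := Z ⊔ Subgroup.zpowers v with hW
  have hWC : W ≤ centralizerIn S R := sup_le inf_le_right ((Subgroup.zpowers_le).mpr hv)
  have hWle : W ≤ R ⊔ Subgroup.zpowers v := sup_le_sup_right inf_le_left _
  have hvW : v ∈ W := Subgroup.mem_sup_right (Subgroup.mem_zpowers v)
  have hCcom : ∀ {c x : Ω}, c ∈ centralizerIn S R → x ∈ R → c * x = x * c := fun hc' hx =>
    (Subgroup.mem_centralizer_iff.mp hc'.2 _ hx).symm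
  set E₃ := centralizerSystem F R hR.1 with hE₃
  have hE₃s : E₃.IsSaturated p := centralizerSystem_isSaturated hS hF hR
  have hE₃iff : ∀ {P : Subgroup Ω} {g : Ω → Ω}, IsMap E₃ P g ↔ IsMap F P g ∧ P ≤ centralizerIn S R ∧
      (∀ x ∈ P, g x ∈ centralizerIn S R) ∧ ExtendsFix F R P g :=
    fun {P g} => IsCentralizerSystem.isMap_iff (isCentralizerSystem_centralizerSystem R hR.1)
  have hCp : IsPGroup p ↥(centralizerIn S R) := hS.to_le (centralizerIn_le _ _)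
  haveI := finite_of_le hR.1
  haveI := finite_of_le (centralizerIn_le S R)
  have hδW : IsMap E₃ W δ := by
    refine hE₃iff.mpr ⟨hδ.mono hWle, hWC, fun x hx => ?_, δ, hδ.mono ?_, fun _ _ => rfl, hfix⟩
    · exact map_mem_centralizer hδ le_sup_left hM' (hWle hx) (hWC hx).2
    · exact sup_le hWle le_sup_left
  have hδWiso : IsIso E₃ W W δ := by
    haveI := finite_of_le hWC
    refine isIso_of_mapsTo hδW hWC (isMap_mem_sup hδW le_sup_left le_sup_right
      (fun x hx => Subgroup.mem_sup_left ((hfix x hx.1).symm ▸ hx)) fun x hx => ?_) le_rfl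
    obtain ⟨k, rfl⟩ := Subgroup.mem_zpowers_iff.mp hx
    obtain ⟨φ, -, hφ⟩ := id hδW
    rw [← hφ ⟨v ^ k, Subgroup.zpow_mem _ hvW k⟩,
      show (⟨v ^ k, Subgroup.zpow_mem _ hvW k⟩ : W) = ⟨v, hvW⟩ ^ k from rfl, map_zpow, hφ, hδv]
    exact Subgroup.zpow_mem _ (Subgroup.mul_mem _ hvW (Subgroup.mem_sup_left ⟨hw, hwC⟩)) k
  obtain ⟨W', hW', hW'n⟩ := exists_fullyNormalized (F := E₃) hWC
  obtain ⟨θ, hθ⟩ := isConj_iff.mp hW'
  obtain ⟨-, -, hθC, θ', hθ', hθ'e, hθ'R⟩ := hE₃iff.mp hθ.1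
  have hθZ : ∀ x ∈ Z, θ x = x := fun x hx => by
    rw [← hθ'e (Subgroup.mem_sup_left hx : x ∈ W)]
    exact hθ'R x hx.1
  obtain ⟨η₁, hη₁, hη₁e⟩ := hδWiso.exists_aut
  haveI := finite_of_le hW'n.1
  haveI := finite_mulAut W'
  set A₃ := E₃.autGroup W' with hA₃
  set η₂ := MulAut.congr hθ.equiv η₁ with hη₂
  have hη₂A : η₂ ∈ A₃ := by
    rw [hA₃, ← autGroup_map_congr hθ]; exact ⟨η₁, hη₁, rfl⟩
  have hA₃Z : ∀ b ∈ A₃, ∀ x : W', (x : Ω) ∈ Z → b x = x := fun b hb x hx => Subtype.ext (by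
    obtain ⟨-, -, -, b', -, hb'e, hb'R⟩ := hE₃iff.mp ((mem_autGroup hW'n.1).mp hb).1
    rw [← autFun_coe b, ← hb'e x.2]
    exact hb'R x hx.1)
  haveI : (Subgroup.comap A₃.subtype (fixMod W' Z)).Normal :=
    fixMod_normal A₃ fun b hb x hx => by rw [hA₃Z b hb x hx]; exact hx
  have hzero : η₂ ∈ fixMod W' Z := by
    refine ⟨hA₃Z _ hη₂A, fun x => ?_⟩
    have hle : W ≤ (Subgroup.map W.subtype
        ({ carrier := {u : W | ((u⁻¹ * η₁ u : W) : Ω) ∈ Z}
           one_mem' := by simp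
           mul_mem' := fun {u v} hu hv => by
             show (((u * v)⁻¹ * η₁ (u * v) : W) : Ω) ∈ Z
             rw [show (u * v)⁻¹ * η₁ (u * v) = v⁻¹ * (u⁻¹ * η₁ u) * v * (v⁻¹ * η₁ v) by
               rw [map_mul]; group, Subgroup.coe_mul]
             refine Z.mul_mem ?_ hv
             have h3 := hCcom (hWC v.2) (hu : ((u⁻¹ * η₁ u : W) : Ω) ∈ Z).1
             simp only [Subgroup.coe_mul, Subgroup.coe_inv] at h3 ⊢
             rw [mul_assoc (v : Ω)⁻¹, ← h3, inv_mul_cancel_left]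
             exact hu
           inv_mem' := fun {u} hu => by
             show (((u⁻¹)⁻¹ * η₁ u⁻¹ : W) : Ω) ∈ Z
             rw [show u⁻¹⁻¹ * η₁ u⁻¹ = u * (u⁻¹ * η₁ u)⁻¹ * u⁻¹ by rw [map_inv]; group]
             have h3 := hCcom (hWC u.2) (Z.inv_mem (hu : ((u⁻¹ * η₁ u : W) : Ω) ∈ Z)).1
             simp only [Subgroup.coe_mul, Subgroup.coe_inv] at h3 ⊢
             rw [h3, mul_inv_cancel_right]
             exact Z.inv_mem hu } : Subgroup W)) := by
      refine sup_le (fun u hu => ⟨⟨u, Subgroup.mem_sup_left hu⟩, ?_, rfl⟩)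
        ((Subgroup.zpowers_le).mpr ⟨⟨v, hvW⟩, ?_, rfl⟩)
      · show u⁻¹ * ((η₁ ⟨u, Subgroup.mem_sup_left hu⟩ : W) : Ω) ∈ Z
        rw [← autFun_of_mem η₁ (Subgroup.mem_sup_left hu : u ∈ W),
          hη₁e (Subgroup.mem_sup_left hu : u ∈ W), hfix u hu.1]
        simp
      · show v⁻¹ * ((η₁ ⟨v, hvW⟩ : W) : Ω) ∈ Z
        rw [← autFun_of_mem η₁ hvW, hη₁e hvW, hδv, inv_mul_cancel_left]
        exact ⟨hw, hwC⟩
    obtain ⟨u, hu, rfl⟩ := hθ.exists_preimage x.2 |> fun ⟨u, hu, he⟩ =>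
      (⟨⟨u, hu⟩, trivial, Subtype.ext he⟩ :
        ∃ u : W, True ∧ (⟨θ u, hθ.mem u.2⟩ : W') = x)
    obtain ⟨u', hu', hu'e⟩ := hle u.2
    have h1 : ((u⁻¹ * η₁ u : W) : Ω) ∈ Z := Subtype.ext hu'e ▸ hu'
    have he : (⟨θ u, hθ.mem u.2⟩ : W') = hθ.equiv u := Subtype.ext (hθ.equiv_apply u).symm
    rw [he, Subgroup.coe_mul, Subgroup.coe_inv, congr_apply_equiv hθ, hθ.equiv_apply,
      ← hθ.1.map_inv u.2, ← hθ.1.map_mul (Subgroup.inv_mem _ u.2) (η₁ u).2]
    rw [show θ ((u : Ω)⁻¹ * (η₁ u : Ω)) = ((u⁻¹ * η₁ u : W) : Ω) from hθZ _ h1]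
    exact h1
  obtain ⟨U, hU⟩ := (fullyAutomized_of_fullyNormalized hCp hE₃s hW'n).2
  have hmemU : (⟨η₂, hη₂A⟩ : A₃) ∈ (U : Subgroup A₃) :=
    IsPGroup.le_sylow_of_normal
      ((fixMod_isPGroup (hCp.to_le hW'n.1)).comap_of_injective _ (Subgroup.subtype_injective _)) U
      (Subgroup.mem_subgroupOf.mpr hzero)
  rw [hU, Subgroup.mem_subgroupOf, mem_autInducedBy] at hmemU
  obtain ⟨c, hcC, hce⟩ := hmemU
  refine ⟨θ v, hθC v hvW, c, hcC, ?_⟩
  have h1 := hce (hθ.equiv ⟨v, hvW⟩)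
  rw [congr_apply_equiv hθ, hθ.equiv_apply, ← autFun_of_mem η₁ hvW, hη₁e hvW, hδv,
    hθ.1.map_mul hvW (Subgroup.mem_sup_left ⟨hw, hwC⟩), hθZ w ⟨hw, hwC⟩] at h1
  rw [← h1, inv_mul_cancel_left]

omit [Finite S] [Fact p.Prime] in
/-- A map of `R C_S(R)` stabilising `R`, trivial modulo `R` on `C_S(R)`, fixes commutators of
`C_S(R)`. -/
theorem fixes_commutator {R : Subgroup Ω} {γ : Ω → Ω} (hγ : IsMap F (R ⊔ centralizerIn S R) γ)
    (hγc : ∀ c ∈ centralizerIn S R, c⁻¹ * γ c ∈ R) (hR : γ '' (R : Set Ω) = (R : Set Ω))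
    {x c : Ω} (hx : x ∈ centralizerIn S R) (hc : c ∈ centralizerIn S R) :
    γ (x⁻¹ * (c * x * c⁻¹)) = x⁻¹ * (c * x * c⁻¹) := by
  have hxD : x ∈ R ⊔ centralizerIn S R := Subgroup.mem_sup_right hx
  have hcD : c ∈ R ⊔ centralizerIn S R := Subgroup.mem_sup_right hc
  obtain ⟨a, haR, haC, hae⟩ : ∃ a ∈ R, a ∈ centralizerIn S R ∧ γ x = x * a :=
    ⟨x⁻¹ * γ x, hγc x hx, mul_mem (inv_mem hx)
      (map_mem_centralizer hγ le_sup_left hR hxD hx.2), by group⟩
  obtain ⟨b, hbR, hbC, hbe⟩ : ∃ b ∈ R, b ∈ centralizerIn S R ∧ γ c = c * b :=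
    ⟨c⁻¹ * γ c, hγc c hc, mul_mem (inv_mem hc)
      (map_mem_centralizer hγ le_sup_left hR hcD hc.2), by group⟩
  have hCcom : ∀ {c x : Ω}, c ∈ centralizerIn S R → x ∈ R → c * x = x * c := fun hc' hx =>
    (Subgroup.mem_centralizer_iff.mp hc'.2 _ hx).symm
  have e1 : b * (x * a) = x * a * b := (hCcom (mul_mem hx haC) hbR).symm
  have e2 : c * x * a * c⁻¹ = c * x * c⁻¹ * a := by
    rw [mul_assoc (c * x), ← hCcom (inv_mem hc) haR]; group
  rw [hγ.map_mul (inv_mem hxD) (mul_mem (mul_mem hcD hxD) (inv_mem hcD)),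
    hγ.map_inv hxD, hγ.map_conj hcD hxD, hae, hbe]
  calc (x * a)⁻¹ * (c * b * (x * a) * (c * b)⁻¹)
      = (x * a)⁻¹ * (c * (b * (x * a)) * b⁻¹ * c⁻¹) := by group
    _ = (x * a)⁻¹ * (c * x * a * c⁻¹) := by rw [e1]; group
    _ = a⁻¹ * (x⁻¹ * (c * x * c⁻¹)) * a := by rw [e2]; group
    _ = x⁻¹ * (c * x * c⁻¹) := by
      rw [mul_assoc, hCcom (mul_mem (inv_mem hx) (mul_mem (mul_mem hc hx) (inv_mem hc))) haR,
        inv_mul_cancel_left]

/-- A map from a centric subgroup of `E` to a fully normalized subgroup of `F`. -/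
theorem exists_transport (h : NData F E p) {U : Subgroup Ω} (hUc : E.IsCentric U) :
    ∃ R θ, F.IsFullyNormalized R ∧ R ≤ T ∧ centralizerIn T R ≤ R ∧
      IsMap F (normalizerIn S U) θ ∧ IsIso F U R θ ∧
      (∀ t ∈ normalizerIn T U, θ t ∈ normalizerIn T R) ∧
      (E.IsFullyNormalized U → ∀ t' ∈ normalizerIn T R, ∃ t ∈ normalizerIn T U, θ t = t') := by
  have hUT := hUc.1
  have hUS := hUT.trans h.tS
  obtain ⟨R, hUR, hRn⟩ := exists_fullyNormalized (F := F) hUS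
  obtain ⟨θ, hθ, hθU, -, hθT⟩ := h.exists_normT_map hRn hUR
  have hUN : U ≤ normalizerIn S U := le_normalizerIn hUS
  have hRT : R ≤ T := fun y hy => by
    obtain ⟨x, hx, rfl⟩ := hθU.exists_preimage hy
    exact Fusion92.closed_apply h.closed hθ (hUN hx) (hUT hx)
  obtain ⟨k, g, hk, hg, hge⟩ := invariant_frattini h.invariant hθU.1 hUT
  obtain ⟨R₁, hR₁⟩ := hg.exists_image
  have hR₁T := hR₁.cod_le
  have hkR : ∀ y ∈ R₁, k y ∈ R := fun y hy => by
    obtain ⟨x, hx, rfl⟩ := hR₁.exists_preimage hy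
    rw [← hge x hx]; exact hθU.mem hx
  refine ⟨R, θ, hRn, hRT, ?_, hθ, hθU, hθT, fun hUn => ?_⟩
  · intro c hcc
    obtain ⟨c', hc', rfl⟩ := hk.exists_preimage hcc.1
    refine hkR _ (hUc.2 R₁ hR₁.isConj ⟨hc', Subgroup.mem_centralizer_iff.mpr fun y hy => ?_⟩)
    refine hk.1.injOn (T.mul_mem (hR₁T hy) hc') (T.mul_mem hc' (hR₁T hy)) ?_
    rw [hk.1.map_mul (hR₁T hy) hc', hk.1.map_mul hc' (hR₁T hy)]
    exact Subgroup.mem_centralizer_iff.mp hcc.2 _ (hkR y hy)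
  · haveI := h.finiteT
    haveI := finite_of_le (normalizerIn_le T U)
    haveI := finite_of_le (normalizerIn_le T R)
    haveI := finite_of_le (normalizerIn_le T R₁)
    obtain ⟨ki, hki, hkl, -⟩ := hk.exists_inv
    have hkiR : IsIso F R R₁ ki := by
      refine ⟨hki.1.mono hRT, ?_⟩
      rw [← hθU.2, ← hR₁.2, Set.image_image]
      exact Set.image_congr fun x hx => by rw [hge x hx]; exact hkl _ (hR₁T (hR₁.mem hx))
    have h1 : Nat.card (normalizerIn T R) ≤ Nat.card (normalizerIn T R₁) := by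
      refine card_le_of_injOn ((normalizerIn_le _ _).trans h.tS) (hki.1.injOn.mono fun x (hx : x ∈ normalizerIn T R) => hx.1)
        fun x (hx : x ∈ normalizerIn T R) => ⟨hki.mem hx.1, (map_mem_normalizer hki.1 hRT hkiR.2 hx.1 hx.2).2⟩
    have h2 := h1.trans (hUn.2 R₁ hR₁.isConj)
    intro t' ht'
    exact surjOn_of_card_le ((normalizerIn_le T R).trans h.tS)
      (hθ.injOn.mono fun x (hx : x ∈ normalizerIn T U) => (⟨h.tS hx.1, hx.2⟩ : x ∈ normalizerIn S U)) hθT h2 t' ht'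

/-- The automorphism transported by `exists_transport` is in `E`. -/
theorem congr_mem (h : NData F E p) {U R : Subgroup Ω} {θ : Ω → Ω} (hUT : U ≤ T)
    (hθU : IsIso F U R θ) {e : MulAut U} (he : e ∈ E.autGroup U) :
    MulAut.congr hθU.equiv e ∈ E.autGroup R := by
  have hiso := (mem_autGroup hUT).mp he
  obtain ⟨χ, hχ, hχe⟩ := h.strongInv U R U (autFun e) θ le_rfl hUT hiso.1
    (fun x hx => hiso.mem hx) hθU.1 hθU
  refine autGroup_mem_of_isMap (hχ.congr fun y hy => ?_)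
  obtain ⟨x, hx, rfl⟩ := hθU.exists_preimage hy
  rw [hχe x hx, autFun_congr hθU e hx]

/-- The displacement under a map fixing a centric subgroup `U` of `E` is fixed by `Aut_E(U)`. -/
theorem commutator_fixed (h : NData F E p) {U : Subgroup Ω} (hUc : E.IsCentric U) {v w : Ω}
    (hv : v ∈ centralizerIn S U) {δ : Ω → Ω} (hδ : IsMap F (U ⊔ Subgroup.zpowers v) δ)
    (hfix : ∀ x ∈ U, δ x = x) (hw : w ∈ U) (hδv : δ v = v * w) {e : MulAut U}
    (he : e ∈ E.autGroup U) : autFun e w = w := by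
  obtain ⟨R, θ, hRn, hRT, hRc, hθ, hθU, -, -⟩ := exists_transport h hUc
  have hUN : U ≤ normalizerIn S U := le_normalizerIn (hUc.1.trans h.tS)
  have hvN : v ∈ normalizerIn S U := centralizerIn_le_normalizerIn _ _ hv
  have hle : U ⊔ Subgroup.zpowers v ≤ normalizerIn S U := sup_le hUN ((Subgroup.zpowers_le).mpr hvN)
  have hδmem : ∀ z ∈ U ⊔ Subgroup.zpowers v, δ z ∈ U ⊔ Subgroup.zpowers v := by
    refine isMap_mem_sup hδ le_sup_left le_sup_right
      (fun z hz => (hfix z hz).symm ▸ Subgroup.mem_sup_left hz) fun z hz => ?_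
    obtain ⟨k, rfl⟩ := Subgroup.mem_zpowers_iff.mp hz
    obtain ⟨φ, -, hφ⟩ := id hδ
    have hvM : v ∈ U ⊔ Subgroup.zpowers v := Subgroup.mem_sup_right (Subgroup.mem_zpowers v)
    rw [← hφ ⟨v ^ k, Subgroup.zpow_mem _ hvM k⟩,
      show (⟨v ^ k, Subgroup.zpow_mem _ hvM k⟩ : ↥(U ⊔ Subgroup.zpowers v)) = ⟨v, hvM⟩ ^ k from rfl,
      map_zpow, hφ, hδv]
    exact Subgroup.zpow_mem _
      (Subgroup.mul_mem _ hvM (Subgroup.mem_sup_left hw)) k
  obtain ⟨M, hM⟩ := (hθ.mono hle).exists_image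
  obtain ⟨θi, hθi, hθl, -⟩ := hM.exists_inv
  have hRvM : R ⊔ Subgroup.zpowers (θ v) ≤ M := by
    refine sup_le (fun r hr => ?_)
      ((Subgroup.zpowers_le).mpr (hM.mem (Subgroup.mem_sup_right (Subgroup.mem_zpowers v))))
    obtain ⟨x, hx, rfl⟩ := hθU.exists_preimage hr
    exact hM.mem (Subgroup.mem_sup_left hx)
  have hg : IsMap F M (θ ∘ δ ∘ θi) :=
    (hθi.1.comp hδ fun z hz => hθi.mem hz).comp hθ fun z hz => hle (hδmem _ (hθi.mem hz))
  have hvC : θ v ∈ centralizerIn S R := map_mem_centralizer hθ hUN hθU.2 hvN hv.2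
  obtain ⟨-, x, hx, c, hc, hwe⟩ := exists_commutator h.pgroup h.sat (h.centralized hRn) hvC
    (hg.mono hRvM) (fun r hr => by
      obtain ⟨u, hu, rfl⟩ := hθU.exists_preimage hr
      simp only [Function.comp_apply]
      rw [hθl u (Subgroup.mem_sup_left hu), hfix u hu])
    (hθU.mem hw) (by
      simp only [Function.comp_apply]
      rw [hθl v (Subgroup.mem_sup_right (Subgroup.mem_zpowers v)), hδv,
        hθ.map_mul hvN (hUN hw)])
  obtain ⟨γ, hγ, hγe, hγc⟩ := h.exists_lift hRn hRT hRc _ (congr_mem h hUc.1 hθU he)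
  have hDS : R ⊔ centralizerIn S R ≤ S := sup_le hRn.1 (centralizerIn_le _ _)
  have hγiso := (mem_autGroup hDS).mp hγ
  have h1 := fixes_commutator hγiso.1 hγc
    ((Set.image_congr hγe).trans (autFun_image _)) hx hc
  rw [← hwe, hγe (hθU.mem hw), autFun_congr hθU e hw] at h1
  exact hθ.injOn (hUN (autFun_of_mem e hw ▸ (e _).2)) (hUN hw) h1

end Cfsg.Agent.Fus93.FixCentre
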