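import Cfsg.Agent.Fus93.FixCentre.Quad

/-!
For odd `p` an element of `C_S(T)` fixed by extensions of `Aut_E(J(T))` centralizes `E`
-/

set_option autoImplicit false
set_option linter.style.haveILetI false

namespace Cfsg.Agent.Fus93.FixCentre

open Cfsg Cfsg.Agent.Fusion Cfsg.Agent.Fusion.NormalLift
open Cfsg.Agent.LocalEven62 (MAb jA jA_eq_sSup jA_le)
open Cfsg.FusionSystem (normalizerIn centralizerIn)
open scoped commutatorElement Pointwise

variable {Ω : Type*} [Group Ω] {S T : Subgroup Ω} {F : FusionSystem S} {E : FusionSystem T} {p : ℕ}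
  [Finite S] [Fact p.Prime]

/-- The data: `y ∈ C_S(T)` is fixed by extensions of all automorphisms of `J(T)`. -/
structure Ctx (F : FusionSystem S) (E : FusionSystem T) (p : ℕ) (y : Ω) : Prop where
  data : NData F E p
  odd : p ≠ 2
  mem : y ∈ centralizerIn S T
  atJ : ∀ e ∈ E.autGroup (jA T), ExtendsFix F (Subgroup.zpowers y) (jA T) (autFun e)

/-- A quadratically acting abelian subgroup of largest order. -/
theorem exists_quad_sub (h : NData F E p) {U N A : Subgroup Ω} (hNT : N ≤ normalizerIn T U)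
    (hUN : U ≤ N) (hA : MAb N A) (hAU : ¬ A ≤ U) :
    ∃ A' : Subgroup Ω, A' ≤ quadSub T U ∧ A' ≤ N ∧ IsMulCommutative A' ∧
      Nat.card A ≤ Nat.card A' ∧ ¬ A' ≤ U := by
  set V := U ⊓ Subgroup.centralizer (U : Set Ω) with hV
  have hUV : U ≤ Subgroup.centralizer (V : Set Ω) := Subgroup.le_centralizer_iff.mp inf_le_right
  have hNV : N ≤ Subgroup.normalizer (V : Set Ω) := fun n hn => by
    haveI := h.finiteT
    haveI := finite_of_le (hNT.trans (normalizerIn_le T U))
    haveI := finite_of_le (inf_le_left.trans hUN : V ≤ N)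
    refine Subgroup.mem_normalizer_fintype fun v hv => ⟨conj_mem_of_mem_normalizer (hNT hn).2 hv.1,
      Subgroup.mem_centralizer_iff.mpr fun u hu => ?_⟩
    have h1 : n⁻¹ * u * n ∈ U := by
      simpa using conj_mem_of_mem_normalizer (Subgroup.inv_mem _ (hNT hn).2) hu
    calc u * (n * v * n⁻¹) = n * (n⁻¹ * u * n * v) * n⁻¹ := by group
      _ = n * (v * (n⁻¹ * u * n)) * n⁻¹ := by rw [Subgroup.mem_centralizer_iff.mp hv.2 _ h1]
      _ = n * v * n⁻¹ * u := by group
  by_cases hAV : A ≤ Subgroup.centralizer (V : Set Ω)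
  · refine ⟨A, fun t ht => mem_quadSub (hNT (hA.1 ht)) fun v hv => ?_, hA.1, hA.2.1, le_rfl, hAU⟩
    rw [commutatorElement_def, ← Subgroup.mem_centralizer_iff.mp (hAV ht) v hv]
    group
  haveI := h.finiteT
  have hNT' : N ≤ T := hNT.trans (normalizerIn_le _ _)
  have hVN : V ≤ N := inf_le_left.trans hUN
  have hVc : IsMulCommutative (V.subgroupOf T) := LocalEven62.isMulCommutative_of_commute
    fun a ha b hb => Subtype.ext (Subgroup.mem_centralizer_iff.mp hb.2 a ha.1)
  have hcard : ∀ {B : Subgroup Ω}, B ≤ T → Nat.card (B.subgroupOf T) = Nat.card B := fun hB =>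
    Nat.card_congr (Subgroup.subgroupOfEquivOfLe hB).toEquiv
  have hAT : A ≤ T := hA.1.trans hNT'
  obtain ⟨A', hA'N, hA'c, hA'card, hA'V, hA'q⟩ := exists_quadratic_ab (p := p) (G := ↥T)
    (P := N.subgroupOf T) (V := V.subgroupOf T) (A := A.subgroupOf T)
    ((h.tp.to_le hNT').of_equiv (Subgroup.subgroupOfEquivOfLe hNT').symm)
    (fun x hx => hVN hx)
    (fun x hx => Subgroup.mem_normalizer_iff.mpr fun v => Subgroup.mem_normalizer_iff.mp (hNV hx) v)
    hVc (fun x hx => hA.1 hx)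
    (LocalEven62.isMulCommutative_of_commute fun a ha b hb => Subtype.ext (hA.commute ha hb).eq)
    (fun B hB hBc => by
      rw [hcard hAT, ← Subgroup.card_map_of_injective T.subtype_injective]
      haveI := hBc
      exact hA.2.2 _ (Subgroup.map_le_iff_le_comap.mpr hB) inferInstance)
    (fun hle => hAV fun a ha => Subgroup.mem_centralizer_iff.mpr fun v hv =>
      congrArg Subtype.val (Subgroup.mem_centralizer_iff.mp (hle (show (⟨a, hAT ha⟩ : T) ∈ A.subgroupOf T from ha))
        (⟨v, hNT' (hVN hv)⟩ : T) hv))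
  haveI := hA'c
  refine ⟨A'.map T.subtype, ?_, Subgroup.map_le_iff_le_comap.mpr hA'N, inferInstance, ?_, ?_⟩
  · rintro _ ⟨t, ht, rfl⟩
    refine mem_quadSub (hNT (hA'N ht)) fun v hv => ?_
    exact congrArg Subtype.val (hA'q t ht ⟨v, hNT' (hVN hv)⟩ hv)
  · rw [← hcard hAT, Subgroup.card_map_of_injective T.subtype_injective]; exact hA'card
  · exact fun hle => hA'V fun t ht => Subgroup.mem_centralizer_iff.mpr fun v hv => Subtype.ext
      (Subgroup.mem_centralizer_iff.mp (hUV (hle ⟨t, ht, rfl⟩)) v hv)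

theorem normalizer_jA (h : NData F E p) {U : Subgroup Ω} (hUT : U ≤ T)
    (he : jA (normalizerIn T U) = U) : U = jA T := by
  haveI := h.finiteT
  have hN : normalizerIn T U = T := by
    by_contra hne
    have hlt := lt_normalizerIn h.tp (lt_of_le_of_ne (normalizerIn_le T U) hne)
    refine hlt.not_ge fun g hg => ⟨hg.1, ?_⟩
    have := normalizer_le_jA _ hg.2
    rwa [he] at this
  rw [hN] at he
  exact he.symm

/-- The subgroups equal to their `J`. -/
theorem jLevel {y : Ω} (hx : Ctx F E p y) {X : Subgroup Ω} (hXn : E.IsFullyNormalized X)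
    (hXc : E.IsCentric X) (hXJ : jA X = X)
    (ih : ∀ V g, IsMap E V g → cls (Nat.card T + 1) X < cls (Nat.card T + 1) V →
      ExtendsFix F (Subgroup.zpowers y) V g) :
    ∀ e ∈ E.autGroup X, ExtendsFix F (Subgroup.zpowers y) X (autFun e) := by
  have h := hx.data
  haveI := h.finiteT
  by_cases hXT : X = jA T
  · subst hXT; exact hx.atJ
  have hN : normalizerIn T X ≤ T := normalizerIn_le _ _
  haveI := finite_of_le hN
  obtain ⟨A, hA, hAX⟩ : ∃ A, MAb (normalizerIn T X) A ∧ ¬ A ≤ X := by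
    by_contra hall
    push Not at hall
    refine hXT (normalizer_jA h hXn.1 ?_)
    have hle : jA (normalizerIn T X) ≤ X := by
      rw [jA_eq_sSup]; exact sSup_le hall
    rw [← jA_sandwich (le_normalizerIn hXn.1) hle, hXJ]
  obtain ⟨A', hA'q, hA'N, hA'c, hA'card, hA'X⟩ :=
    exists_quad_sub h le_rfl (le_normalizerIn hXn.1) hA hAX
  have hQT : quadSub T X ≤ T := quadSub_le.trans hN
  haveI := finite_of_le hQT
  refine fix_of_quad h hx.odd hXn hXc hx.mem fun g hg => ih _ g hg ?_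
  refine cls_lt (Nat.lt_succ_of_le (Subgroup.card_le_of_le hQT)) hXJ (le_quadSub hXn.1) hA'q hA'c ?_ hA'X
  exact ((mA_mono (le_normalizerIn hXn.1)).trans (card_eq_mA hA).ge).trans hA'card

theorem centralizer_jA_le (h : NData F E p) {U : Subgroup Ω} (hUT : U ≤ T)
    (hJ : jA (normalizerIn T U) ≤ U) : centralizerIn T (jA U) ≤ jA U := by
  haveI := h.finiteT
  haveI := finite_of_le hUT
  haveI := finite_of_le (normalizerIn_le T U)
  have he : jA U = jA (normalizerIn T U) := jA_sandwich (le_normalizerIn hUT) hJ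
  set C := centralizerIn T (jA U) with hC
  have hCU : C ≤ U := by
    by_contra hne
    have hUC : U ≤ Subgroup.normalizer (C : Set Ω) := fun u hu => by
      haveI := finite_of_le (centralizerIn_le T (jA U))
      refine Subgroup.mem_normalizer_fintype fun c hc => ⟨T.mul_mem (T.mul_mem (hUT hu) hc.1) (T.inv_mem (hUT hu)),
        Subgroup.mem_centralizer_iff.mpr fun x hxJ => ?_⟩
      have h1 : u⁻¹ * x * u ∈ jA U := by
        simpa using conj_mem_of_mem_normalizer (inv_mem (normalizer_le_jA U (U.le_normalizer hu))) hxJ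
      calc x * (u * c * u⁻¹) = u * (u⁻¹ * x * u * c) * u⁻¹ := by group
        _ = u * (c * (u⁻¹ * x * u)) * u⁻¹ := by rw [Subgroup.mem_centralizer_iff.mp hc.2 _ h1]
        _ = u * c * u⁻¹ * x := by group
    have hKT : U ⊔ C ≤ T := sup_le hUT (centralizerIn_le _ _)
    haveI := finite_of_le hKT
    have hlt : U < U ⊔ C := lt_of_le_of_ne le_sup_left fun he' => hne (he'.symm ▸ le_sup_right)
    obtain ⟨g, hg, hgU⟩ := SetLike.exists_of_lt (lt_normalizerIn (h.tp.to_le hKT) hlt)
    obtain ⟨u, hu, c, hc, rfl⟩ : g ∈ (U : Set Ω) * (C : Set Ω) := by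
      rw [← Subgroup.coe_mul_of_left_le_normalizer_right U C hUC]; exact hg.1
    have hcN : c ∈ normalizerIn T U := ⟨hc.1, by
      have := mul_mem (inv_mem (U.le_normalizer hu)) hg.2
      rwa [inv_mul_cancel_left] at this⟩
    have h2 : c ∈ jA (normalizerIn T U) := centralizer_inf_le_jA hcN (he ▸ hc.2)
    exact hgU (mul_mem hu (hJ h2))
  exact fun c hc => centralizer_inf_le_jA (hCU hc) hc.2

theorem fix_of_descend_jA {y : Ω} (hx : Ctx F E p y) {U : Subgroup Ω} (hUn : E.IsFullyNormalized U)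
    (hUc : E.IsCentric U) (hXc : E.IsCentric (jA U))
    (hX : ∀ e ∈ E.autGroup (jA U), ExtendsFix F (Subgroup.zpowers y) (jA U) (autFun e)) :
    ∀ e ∈ E.autGroup U, ExtendsFix F (Subgroup.zpowers y) U (autFun e) := by
  have h := hx.data
  haveI := h.finiteT
  have hUT := hUn.1
  haveI := finite_of_le hUT
  refine autGroup_fix h hUn hx.mem fun e he ho => ?_
  obtain ⟨a, ⟨haU, haC⟩, -, hae⟩ := exists_point_centric h hUc hUn hx.mem
  have haX : a ∈ jA U := centralizer_inf_le_jA haU (Subgroup.centralizer_le (jA_le U) haC.2)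
  have hiso := (mem_autGroup hUT).mp he
  obtain ⟨-, -, him⟩ := invariants_map hiso
  obtain ⟨b, hb, hbe⟩ := (show IsIso E (jA U) (jA U) (autFun e) from
    ⟨hiso.1.mono (jA_le U), him⟩).exists_aut
  exact fix_of_fixes haU (hae e he) (fixes_of_descend h hUT (jA_le U) hXc
    ⟨hx.mem.1, Subgroup.centralizer_le hUT hx.mem.2⟩ haX he ho him (hae e he) ((hX b hb).congr hbe))

theorem quad_or_jA_le (h : NData F E p) {U : Subgroup Ω} (hUT : U ≤ T) :
    U < quadSub T U ∨ jA (normalizerIn T U) ≤ U := by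
  haveI := h.finiteT
  by_cases hq : quadSub T U ≤ U
  · right
    rw [jA_eq_sSup]
    refine sSup_le fun A hA => ?_
    by_contra hAU
    obtain ⟨A', h1, -, -, -, h5⟩ := exists_quad_sub h le_rfl (le_normalizerIn hUT) hA hAU
    exact h5 (h1.trans hq)
  · exact .inl (lt_of_le_of_ne (le_quadSub hUT) fun he => hq he.ge)

/-- The automorphisms of a fully normalized centric subgroup. -/
theorem autCase {y : Ω} (hx : Ctx F E p y) {U : Subgroup Ω} (hUn : E.IsFullyNormalized U)
    (hUc : E.IsCentric U) (hUT : U < T)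
    (ih : ∀ V g, IsMap E V g → mu (Nat.card T + 1) U < mu (Nat.card T + 1) V →
      ExtendsFix F (Subgroup.zpowers y) V g) :
    ∀ e ∈ E.autGroup U, ExtendsFix F (Subgroup.zpowers y) U (autFun e) := by
  have h := hx.data
  haveI := h.finiteT
  haveI := finite_of_le hUT.le
  have hlt : ∀ {W V : Subgroup Ω}, V ≤ T → W < V → mu (Nat.card T + 1) W < mu (Nat.card T + 1) V := by
    intro W V hVT hWV
    haveI := finite_of_le hVT
    exact mu_lt_of_lt (Nat.lt_succ_of_le (Subgroup.card_le_of_le hVT)) hWV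
  have hquad : ∀ {W : Subgroup Ω}, E.IsFullyNormalized W → E.IsCentric W →
      mu (Nat.card T + 1) U ≤ mu (Nat.card T + 1) W → W < quadSub T W →
      ∀ e ∈ E.autGroup W, ExtendsFix F (Subgroup.zpowers y) W (autFun e) := fun hWn hWc hm hW =>
    fix_of_quad h hx.odd hWn hWc hx.mem fun g hg => ih _ g hg
      (lt_of_le_of_lt hm (hlt (quadSub_le.trans (normalizerIn_le _ _)) hW))
  rcases quad_or_jA_le h hUT.le with hq | hJ
  · exact hquad hUn hUc le_rfl hq
  -- move `J(U)` to a fully normalized subgroup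
  set X := jA U with hXd
  have hXT : X ≤ T := (jA_le U).trans hUT.le
  obtain ⟨X₀, hXX₀, hX₀n⟩ := exists_fullyNormalized (F := E) hXT
  obtain ⟨θ, hθ, hθX, -⟩ := exists_normalizer_map h.tp
    (fullyAutomized_of_fullyNormalized h.tp h.eSat hX₀n)
    (receptive_of_fullyNormalized h.tp h.eSat hX₀n) hXX₀
  have hPX : normalizerIn T U ≤ normalizerIn T X := fun g hg => ⟨hg.1, normalizer_le_jA U hg.2⟩
  have hUX : U < normalizerIn T X := lt_of_lt_of_le (lt_normalizerIn h.tp hUT) hPX
  have cθ : ExtendsFix F (Subgroup.zpowers y) U θ :=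
    extendsFix_mono (ih _ θ hθ (hlt (normalizerIn_le _ _) hUX)) hUX.le le_rfl
  obtain ⟨U₁, hU₁⟩ := (hθ.mono hUX.le).exists_image
  obtain ⟨θi, hθi, hθl, -⟩ := hU₁.exists_inv
  have cθi : ExtendsFix F (Subgroup.zpowers y) U₁ θi :=
    cθ.inv ⟨hU₁.1.of_isSubsystemOf h.sub, hU₁.2⟩ hθl
  have hX₀ : jA U₁ = X₀ := SetLike.coe_injective
    ((invariants_map hU₁).2.2.symm.trans hθX.2)
  have hU₁n : E.IsFullyNormalized U₁ := by
    refine ⟨hU₁.cod_le, fun W hW => (hUn.2 W (isConj_trans hU₁.isConj hW)).trans ?_⟩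
    exact card_le_of_injOn (normalizerIn_le _ _) (hθ.injOn.mono fun g hg => hPX hg) fun g hg =>
      map_mem_normalizer hθ hUX.le hU₁.2 (hPX hg) hg.2
  have hU₁c : E.IsCentric U₁ := ⟨hU₁.cod_le, fun Q hQ => hUc.2 Q (isConj_trans hU₁.isConj hQ)⟩
  have hmu₁ := invariants_eq (N := Nat.card T + 1) hU₁
  have hU₁fix : ∀ e ∈ E.autGroup U₁, ExtendsFix F (Subgroup.zpowers y) U₁ (autFun e) := by
    rcases quad_or_jA_le h hU₁.cod_le with hq | hJ₁
    · exact hquad hU₁n hU₁c hmu₁.2.ge hq
    haveI := finite_of_le hU₁.cod_le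
    haveI := finite_of_le hX₀n.1
    have hXc : E.IsCentric X₀ :=
      centric_of_normalized h hX₀n (hX₀ ▸ centralizer_jA_le h hU₁.cod_le hJ₁)
    refine fix_of_descend_jA hx hU₁n hU₁c (hX₀.symm ▸ hXc) ?_
    rw [hX₀]
    refine jLevel hx hX₀n hXc (hX₀ ▸ jA_jA U₁) fun V g hg hcls => ih V g hg ?_
    have hcX : cls (Nat.card T + 1) X₀ = cls (Nat.card T + 1) U₁ := by
      simp only [cls, ← hX₀, mA_jA, jA_jA]
    rw [hcX, hmu₁.1] at hcls
    exact mu_lt_of_cls_lt (Nat.lt_succ_of_le (Subgroup.card_le_of_le hUT.le)) hcls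
  intro e he
  set e₁ := MulAut.congr hU₁.equiv e with he₁
  have he₁m : e₁ ∈ E.autGroup U₁ := by rw [he₁, ← autGroup_map_congr hU₁]; exact ⟨e, he, rfl⟩
  refine ((cθ.comp (hU₁fix e₁ he₁m) fun x hx => hU₁.mem hx).comp cθi fun x hx => ?_).congr fun x hx => ?_
  · rw [Function.comp_apply, autFun_of_mem e₁ (hU₁.mem hx)]
    exact (e₁ _).2
  · simp only [Function.comp_apply]
    rw [he₁, autFun_congr hU₁ e hx]
    exact hθl _ (autFun_of_mem e hx ▸ (e _).2)

set_option maxHeartbeats 800000 in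
/-- All maps of `E` extend fixing `y`. -/
theorem extends_all {y : Ω} (hx : Ctx F E p y) :
    ∀ P f, IsMap E P f → ExtendsFix F (Subgroup.zpowers y) P f := by
  have h := hx.data
  haveI := h.finiteT
  set N := Nat.card T + 1 with hN
  intro P f hf
  induction hn : mu N T - mu N P using Nat.strong_induction_on generalizing P f with
  | _ n ih =>
  have hPT := hf.dom_le
  have ih' : ∀ V g, IsMap E V g → mu N P < mu N V → ExtendsFix F (Subgroup.zpowers y) V g := by
    intro V g hg hlt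
    have h1 : mu N V ≤ mu N T := by
      rcases (hg.dom_le).lt_or_eq with hVT | rfl
      · exact (mu_lt_of_lt (Nat.lt_succ_self _) hVT).le
      · exact le_rfl
    exact ih _ (by omega) V g hg rfl
  by_cases hPeq : P = T
  · subst hPeq
    obtain ⟨e, he, hee⟩ :=
      (isIso_of_mapsTo hf le_rfl (fun x hx => hf.apply_mem hx) le_rfl).exists_aut
    refine (fix_of_descend_jA hx fullyNormalized_self isCentric_self ?_ ?_ e he).congr hee
    · haveI := finite_of_le (normalizerIn_le P (jA P))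
      refine centric_of_normalized h ⟨jA_le P, fun Q _ => ?_⟩
        fun c hc => centralizer_inf_le_jA hc.1 hc.2
      exact Subgroup.card_le_of_le fun g hg => ⟨hg.1, normalizer_le_jA P (P.le_normalizer hg.1)⟩
    · exact hx.atJ
  obtain ⟨Q, hQ⟩ := hf.exists_image
  obtain ⟨R₀, hPR, hR₀n⟩ := exists_fullyNormalized (F := E) hPT
  have hRa := fullyAutomized_of_fullyNormalized h.tp h.eSat hR₀n
  have hRr := receptive_of_fullyNormalized h.tp h.eSat hR₀n
  have hQR : E.IsConj Q R₀ := isConj_trans (isConj_symm hQ.isConj) hPR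
  obtain ⟨θ, hθ, hθP, -⟩ := exists_normalizer_map h.tp hRa hRr hPR
  obtain ⟨θ', hθ', hθQ, -⟩ := exists_normalizer_map h.tp hRa hRr hQR
  haveI := finite_of_le hPT
  have hμQ : mu N Q = mu N P := (invariants_eq hQ).2
  have hμR : mu N R₀ = mu N P := (invariants_eq hθP).2
  have hproper : ∀ {X : Subgroup Ω}, X ≤ T → mu N X = mu N P → X < T := by
    intro X hXT hX
    refine lt_of_le_of_ne hXT fun he => ?_
    have h1 := mu_lt_of_lt (N := N) (Nat.lt_succ_self _) (lt_of_le_of_ne hPT hPeq)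
    rw [← hX, he] at h1
    exact lt_irrefl _ h1
  have hbig : ∀ {X Y : Subgroup Ω} {θ : Ω → Ω}, mu N X = mu N P → X < Y →
      IsMap E Y θ → ExtendsFix F (Subgroup.zpowers y) X θ := by
    intro X Y θ hX hXY hθ
    haveI := finite_of_le hθ.dom_le
    exact extendsFix_mono (ih' Y θ hθ (hX ▸ mu_lt_of_lt
      (Nat.lt_succ_of_le (Subgroup.card_le_of_le hθ.dom_le)) hXY)) hXY.le le_rfl
  have cθ := hbig rfl (lt_normalizerIn h.tp (hproper hPT rfl)) hθ
  have cθ' := hbig hμQ (lt_normalizerIn h.tp (hproper hQ.cod_le hμQ)) hθ'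
  obtain ⟨θi, hθi, hθl, -⟩ := hθP.exists_inv
  obtain ⟨θ'i, hθ'i, hθ'l, -⟩ := hθQ.exists_inv
  have cθ'i : ExtendsFix F (Subgroup.zpowers y) R₀ θ'i :=
    cθ'.inv ⟨hθQ.1.of_isSubsystemOf h.sub, hθQ.2⟩ hθ'l
  obtain ⟨β, hβm, hβe⟩ := ((hθi.comp hQ).comp hθQ).exists_aut
  suffices cβ : ExtendsFix F (Subgroup.zpowers y) R₀ (autFun β) by
    refine ((cθ.comp cβ fun x hx => hθP.mem hx).comp cθ'i fun x hx => ?_).congr fun x hx => ?_
    · rw [Function.comp_apply, autFun_of_mem β (hθP.mem hx)]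
      exact (β _).2
    · simp only [Function.comp_apply]
      rw [hβe (hθP.mem hx)]
      simp only [Function.comp_apply, hθl x hx]
      exact hθ'l _ (hQ.mem hx)
  by_cases hRc : E.IsCentric R₀
  · exact autCase hx hR₀n hRc (hproper hR₀n.1 hμR) (fun V g hg hlt => ih' V g hg (hμR ▸ hlt)) β hβm
  · obtain ⟨Y, k, hRY, hk, hke⟩ := isExtendableAut_of_not_centric h.tp h.eSat hR₀n hRc hβm
    exact (hbig hμR hRY hk).congr hke

/-- For odd `p`, if `C_S(E) ≤ T` then `C_S(T) ≤ T`. -/
theorem centralizer_le (h : NData F E p) (hp : p ≠ 2) (hcE : cE F E ≤ T) :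
    centralizerIn S T ≤ T := by
  haveI := h.finiteT
  intro c hc
  haveI := finite_of_le (normalizerIn_le T (jA T))
  have hJn : E.IsFullyNormalized (jA T) := ⟨jA_le T, fun Q _ =>
    Subgroup.card_le_of_le fun g hg => ⟨hg.1, normalizer_le_jA T (T.le_normalizer hg.1)⟩⟩
  have hJc : E.IsCentric (jA T) :=
    centric_of_normalized h hJn fun c hc => centralizer_inf_le_jA hc.1 hc.2
  obtain ⟨a, ⟨haJ, -⟩, hat, hae⟩ := exists_point_centric h hJc hJn hc
  have haT : a ∈ T := jA_le T haJ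
  have hya : c * a ∈ centralizerIn S T := by
    refine ⟨mul_mem hc.1 (h.tS haT), Subgroup.mem_centralizer_iff.mpr fun t ht => ?_⟩
    have h1 : t * a * t⁻¹ = a := hat t ⟨ht, normalizer_le_jA T (T.le_normalizer ht)⟩
    have h2 : t * c = c * t := Subgroup.mem_centralizer_iff.mp hc.2 t ht
    calc t * (c * a) = c * (t * a * t⁻¹) * t := by rw [← mul_assoc t, h2]; group
      _ = c * a * t := by rw [h1]
  have hgood : Good F E (c * a) := ⟨hya, extends_all ⟨h, hp, hya, hae⟩⟩
  have h1 : c * a ∈ T := hcE (Subgroup.subset_closure hgood)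
  simpa using mul_mem h1 (inv_mem haT)

end Cfsg.Agent.Fus93.FixCentre
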