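import Cfsg.Agent.JFix.Quadratic
import Cfsg.Agent.Lib.Thompson.Replacement

/-!
Thompson replacement in the quadratic form used for the fixed point theorem (adapted from
`JFix.exists_quadratic`)
-/

set_option autoImplicit false

namespace Cfsg.Agent.Fus93.FixCentre

open Cfsg.Agent Cfsg.Agent.JFix
open scoped commutatorElement

variable {G : Type*} [Group G]

/-- Thompson replacement: a quadratic abelian subgroup of largest order. -/
theorem exists_quadratic_ab [Finite G] {p : ℕ} [Fact p.Prime] {P V A : Subgroup G} (hP : IsPGroup p P)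
    (hVP : V ≤ P) (hPV : P ≤ Subgroup.normalizer (V : Set G)) (hVc : IsMulCommutative V)
    (hAP : A ≤ P) (hAc : IsMulCommutative A)
    (hmax : ∀ B : Subgroup G, B ≤ P → IsMulCommutative B → Nat.card B ≤ Nat.card A)
    (hAV : ¬ A ≤ Subgroup.centralizer (V : Set G)) :
    ∃ A' : Subgroup G, A' ≤ P ∧ IsMulCommutative A' ∧ Nat.card A ≤ Nat.card A' ∧
      ¬ A' ≤ Subgroup.centralizer (V : Set G) ∧ ∀ g ∈ A', ∀ v ∈ V, g * ⁅g, v⁆ = ⁅g, v⁆ * g := by
  classical
  set A₀ := A ⊓ Subgroup.centralizer (V : Set G) with hA₀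
  let m : Subgroup G → ℕ := fun B => Nat.card B * Nat.card ↥(V ⊓ Subgroup.centralizer (B : Set G))
  have hA₀A : A₀ < A := lt_of_le_of_ne inf_le_left fun h => hAV (h ▸ inf_le_right)
  -- the offender inequality
  have hoff : Nat.card A₀ * Nat.card V ≤ m A := by
    have hc : IsMulCommutative ↥(A₀ ⊔ V) := by
      rw [← Subgroup.le_centralizer_iff_isMulCommutative]
      have h1 : A₀ ≤ Subgroup.centralizer ((A₀ ⊔ V : Subgroup G) : Set G) :=
        Subgroup.le_centralizer_iff.1 (sup_le
          ((inf_le_left.trans (Subgroup.le_centralizer_iff_isMulCommutative.2 hAc)).trans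
            (Subgroup.centralizer_le (show (A₀ : Set G) ⊆ A from fun x hx => hx.1)))
          (Subgroup.le_centralizer_iff.1 inf_le_right))
      have h2 : V ≤ Subgroup.centralizer ((A₀ ⊔ V : Subgroup G) : Set G) :=
        Subgroup.le_centralizer_iff.1 (sup_le inf_le_right (Subgroup.le_centralizer_iff_isMulCommutative.2 hVc))
      exact sup_le h1 h2
    have h1 := hmax _ (sup_le (inf_le_left.trans hAP) hVP) hc
    have h2 : Nat.card A₀ * Nat.card V ≤ Nat.card ↥(A₀ ⊔ V) * Nat.card ↥(A₀ ⊓ V) := by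
      have e2 := (V.subgroupOf (A₀ ⊔ V)).card_mul_index
      rw [Nat.card_congr (Subgroup.subgroupOfEquivOfLe (le_sup_right : V ≤ A₀ ⊔ V)).toEquiv] at e2
      have e3 := ((V ⊓ A₀).subgroupOf A₀).card_mul_index
      rw [Nat.card_congr (Subgroup.subgroupOfEquivOfLe (inf_le_right : V ⊓ A₀ ≤ A₀)).toEquiv] at e3
      have e4 : (V ⊓ A₀).relIndex A₀ ≤ V.relIndex (A₀ ⊔ V) := by
        rw [Subgroup.inf_relIndex_right]
        exact Subgroup.relIndex_le_of_le_right le_sup_left Subgroup.FiniteIndex.index_ne_zero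
      rw [← e2, ← e3, inf_comm A₀ V]
      calc Nat.card ↥(V ⊓ A₀) * (V ⊓ A₀).relIndex A₀ * Nat.card V
          ≤ Nat.card ↥(V ⊓ A₀) * V.relIndex (A₀ ⊔ V) * Nat.card V :=
            Nat.mul_le_mul_right _ (Nat.mul_le_mul_left _ e4)
        _ = Nat.card V * V.relIndex (A₀ ⊔ V) * Nat.card ↥(V ⊓ A₀) := by ring
        _ = _ := rfl
    refine h2.trans (Nat.mul_le_mul h1 (Subgroup.card_le_of_le (le_inf inf_le_right ?_)))
    exact (inf_le_left.trans inf_le_left).trans (Subgroup.le_centralizer_iff_isMulCommutative.2 hAc)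
  -- the best choice
  let 𝔅 : Set (Subgroup G) := {B | A₀ < B ∧ B ≤ A}
  obtain ⟨B₁, hB₁, hB₁max⟩ := Set.exists_max_image 𝔅 m (Set.toFinite _) ⟨A, hA₀A, le_rfl⟩
  let 𝔅' : Set (Subgroup G) := {B | B ∈ 𝔅 ∧ m B₁ ≤ m B}
  obtain ⟨B, ⟨⟨hA₀B, hBA⟩, hBm⟩, hBmin⟩ :=
    Set.exists_min_image 𝔅' (fun B => Nat.card B) (Set.toFinite _) ⟨B₁, hB₁, le_rfl⟩
  have hmA : m A ≤ m B := (hB₁max A ⟨hA₀A, le_rfl⟩).trans hBm
  have hBP := hBA.trans hAP
  have hBc : IsMulCommutative B :=
    Subgroup.le_centralizer_iff_isMulCommutative.1 (hBA.trans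
      ((Subgroup.le_centralizer_iff_isMulCommutative.2 hAc).trans (Subgroup.centralizer_le hBA)))
  -- `B` acts quadratically
  have hquad : ∀ v ∈ V, ∀ b ∈ B, ∀ c ∈ B, c * ⁅b, v⁆ = ⁅b, v⁆ * c := by
    intro v hv b hb c hc
    obtain ⟨h1, h2⟩ := card_step hPV hVc hBP hBc hv
    set M := Subgroup.closure ((fun b => ⁅b, v⁆) '' (B : Set G)) with hM
    set C := V ⊓ Subgroup.centralizer (B : Set G) with hC
    set B' := B ⊓ Subgroup.centralizer (M : Set G) with hB'
    have hMV : M ≤ V := (le_sup_left.trans h2).trans inf_le_left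
    suffices hfull : B ≤ B' by
      exact (Subgroup.mem_centralizer_iff.1 (hfull hc).2 _ (Subgroup.subset_closure ⟨b, hb, rfl⟩)).symm
    by_contra hne
    have hlt : B' < B := lt_of_le_not_ge inf_le_left hne
    have hm' : m B ≤ m B' := h1.trans (Nat.mul_le_mul_left _ (Subgroup.card_le_of_le h2))
    have hA₀B' : A₀ ≤ B' :=
      le_inf hA₀B.le ((inf_le_right : A₀ ≤ _).trans (Subgroup.centralizer_le hMV))
    rcases hA₀B'.lt_or_eq with h | h
    · have h3 := hBmin B' ⟨⟨h, inf_le_left.trans hBA⟩, hBm.trans hm'⟩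
      exact hlt.ne (Subgroup.eq_of_le_of_card_ge hlt.le h3)
    · -- then `V = M C`, and `M` dies by nilpotency
      have hle : M ⊔ C ≤ V := sup_le hMV inf_le_left
      have h4 : Nat.card A₀ * Nat.card V ≤ Nat.card A₀ * Nat.card ↥(M ⊔ C) := by
        refine (hoff.trans hmA).trans ?_
        rw [h]
        exact h1
      have hVeq : M ⊔ C = V := Subgroup.eq_of_le_of_card_ge hle (Nat.le_of_mul_le_mul_left h4 Nat.card_pos)
      have hMM : M ≤ ⁅M, P⁆ := by
        let R : Subgroup G :=
          { carrier := {x | x ∈ V ∧ ∀ b ∈ B, ⁅b, x⁆ ∈ ⁅M, P⁆}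
            one_mem' := ⟨one_mem _, fun b _ => by simp⟩
            mul_mem' := fun {x y} hx hy => ⟨mul_mem hx.1 hy.1, fun b hb => by
              have e : ⁅b, x * y⁆ = ⁅b, x⁆ * (x * ⁅b, y⁆ * x⁻¹) := by
                simp only [commutatorElement_def]; group
              rw [e, comm_of_isMulCommutative hVc hx.1 (commutator_elt_mem (hPV (hBP hb)) hy.1),
                mul_inv_cancel_right]
              exact mul_mem (hx.2 b hb) (hy.2 b hb)⟩
            inv_mem' := fun {x} hx => ⟨inv_mem hx.1, fun b hb => by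
              have e : ⁅b, x⁻¹⁆ = x⁻¹ * ⁅b, x⁆⁻¹ * x := by simp only [commutatorElement_def]; group
              rw [e, comm_of_isMulCommutative hVc (inv_mem hx.1)
                (inv_mem (commutator_elt_mem (hPV (hBP hb)) hx.1)), inv_mul_cancel_right]
              exact inv_mem (hx.2 b hb)⟩ }
        have hsup : M ⊔ C ≤ R := sup_le
          (fun x hx => ⟨hMV hx, fun b hb => by
            rw [Subgroup.commutator_comm]; exact Subgroup.commutator_mem_commutator (hBP hb) hx⟩)
          (fun x hx => ⟨hx.1, fun b hb => by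
            rw [commutatorElement_eq_one_iff_mul_comm.2 (Subgroup.mem_centralizer_iff.1 hx.2 b hb)]
            exact one_mem _⟩)
        refine (Subgroup.closure_le _).2 ?_
        rintro _ ⟨b, hb, rfl⟩
        exact (hsup (hVeq.ge hv)).2 b hb
      haveI : Group.IsNilpotent P := hP.isNilpotent
      have hn : ∀ n, M ≤ (Subgroup.lowerCentralSeries (⊤ : Subgroup P) n).map P.subtype := by
        intro n
        induction n with
        | zero =>
          rw [Subgroup.lowerCentralSeries_zero, ← MonoidHom.range_eq_map, Subgroup.range_subtype]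
          exact hMV.trans hVP
        | succ n ih =>
          refine hMM.trans ?_
          show _ ≤ (⁅Subgroup.lowerCentralSeries (⊤ : Subgroup P) n, (⊤ : Subgroup P)⁆ : Subgroup P).map P.subtype
          rw [Subgroup.map_commutator, ← MonoidHom.range_eq_map, Subgroup.range_subtype]
          exact Subgroup.commutator_mono ih le_rfl
      obtain ⟨n, hn'⟩ := Subgroup.nilpotent_iff_lowerCentralSeries.1 (inferInstance : Group.IsNilpotent P)
      have hMbot : M = ⊥ := le_bot_iff.1 ((hn n).trans (by rw [hn', Subgroup.map_bot]))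
      refine hne (le_inf le_rfl ?_)
      rw [hMbot]
      exact fun x _ => Subgroup.mem_centralizer_iff.2 fun y hy => by
        rw [Subgroup.mem_bot.1 hy, one_mul, mul_one]
  set C := V ⊓ Subgroup.centralizer (B : Set G) with hC
  have hBcen : B ≤ Subgroup.centralizer (C : Set G) := Subgroup.le_centralizer_iff.1 inf_le_right
  have hCcen : C ≤ Subgroup.centralizer (C : Set G) :=
    (inf_le_left.trans (Subgroup.le_centralizer_iff_isMulCommutative.2 hVc)).trans
      (Subgroup.centralizer_le (fun x hx => hx.1))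
  have hBB : B ≤ Subgroup.centralizer (B : Set G) := Subgroup.le_centralizer_iff_isMulCommutative.2 hBc
  have hBCc : IsMulCommutative ↥(B ⊔ C) := Subgroup.le_centralizer_iff_isMulCommutative.1 (sup_le
    (Subgroup.le_centralizer_iff.1 (sup_le hBB inf_le_right))
    (Subgroup.le_centralizer_iff.1 (sup_le hBcen hCcen)))
  refine ⟨B ⊔ C, sup_le hBP (inf_le_left.trans hVP), hBCc, ?_, ?_, ?_⟩
  · have h1 : m A ≤ m B := hmA
    have h2 := Thompson.card_sup_mul_card_inf (H := B) (K := C)
      ((inf_le_right : C ≤ _).trans (Subgroup.centralizer_le_normalizer _))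
    have h3 : Nat.card ↥(B ⊓ C) ≤ Nat.card ↥(V ⊓ Subgroup.centralizer (A : Set G)) :=
      Subgroup.card_le_of_le (le_inf (inf_le_right.trans inf_le_left)
        ((inf_le_left.trans hBA).trans (Subgroup.le_centralizer_iff_isMulCommutative.2 hAc)))
    exact Nat.le_of_mul_le_mul_right
      (h1.trans (h2.symm.le.trans (Nat.mul_le_mul_left _ h3))) Nat.card_pos
  · intro hle
    obtain ⟨g, hgB, hg⟩ := SetLike.exists_of_lt hA₀B
    exact hg ⟨hBA hgB, hle (Subgroup.mem_sup_left hgB)⟩
  · intro g hg v hv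
    rw [← SetLike.mem_coe, Subgroup.coe_mul_of_left_le_normalizer_right _ _
      (hBcen.trans (Subgroup.centralizer_le_normalizer _))] at hg
    obtain ⟨b, hb, c, hc, rfl⟩ := hg
    have hcv : c * v = v * c := comm_of_isMulCommutative hVc hc.1 hv
    have e : ⁅b * c, v⁆ = ⁅b, v⁆ := by
      simp only [commutatorElement_def, mul_inv_rev]
      calc b * c * v * (c⁻¹ * b⁻¹) * v⁻¹ = b * (c * v) * c⁻¹ * b⁻¹ * v⁻¹ := by group
        _ = b * (v * c) * c⁻¹ * b⁻¹ * v⁻¹ := by rw [hcv]
        _ = _ := by group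
    rw [e, mul_assoc, comm_of_isMulCommutative hVc hc.1
      (commutator_elt_mem (hPV (hBP hb)) hv), ← mul_assoc, hquad v hv b hb b hb, mul_assoc]

end Cfsg.Agent.Fus93.FixCentre
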