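import Cfsg.Agent.Fus93.FixCentre.Transport
import Cfsg.Agent.Fus93.FixCentre.Replacement
import Cfsg.Agent.LocalEven62.GlaubWC.MaxAb

/-!
Abelian subgroups of largest order in the subgroups of `S`, and the measure for the induction
-/

set_option autoImplicit false
set_option linter.style.haveILetI false

namespace Cfsg.Agent.Fus93.FixCentre

open Cfsg Cfsg.Agent.Fusion
open Cfsg.Agent.LocalEven62 (MAb jA jA_eq_sSup jA_le mAb_map jA_map)
open Cfsg.FusionSystem (normalizerIn centralizerIn)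

variable {Ω : Type*} [Group Ω]

/-- The largest order of an abelian subgroup of `U`. -/
noncomputable def mA (U : Subgroup Ω) : ℕ :=
  sSup ((fun A : Subgroup Ω => Nat.card A) '' {A | A ≤ U ∧ IsMulCommutative A})

theorem bddAbove_ab (U : Subgroup Ω) [Finite U] :
    BddAbove ((fun A : Subgroup Ω => Nat.card A) '' {A | A ≤ U ∧ IsMulCommutative A}) :=
  ⟨Nat.card U, by rintro _ ⟨A, hA, rfl⟩; exact Subgroup.card_le_of_le hA.1⟩

theorem exists_max (U : Subgroup Ω) [Finite U] : ∃ A, MAb U A ∧ Nat.card A = mA U := by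
  obtain ⟨A, hA, he⟩ := Nat.sSup_mem
    (s := (fun A : Subgroup Ω => Nat.card A) '' {A | A ≤ U ∧ IsMulCommutative A})
    ⟨_, ⊥, ⟨bot_le, inferInstance⟩, rfl⟩ (bddAbove_ab U)
  exact ⟨A, ⟨hA.1, hA.2, fun B h1 h2 =>
    (le_csSup (bddAbove_ab U) ⟨B, ⟨h1, h2⟩, rfl⟩).trans he.ge⟩, he⟩

theorem card_eq_mA {U A : Subgroup Ω} [Finite U] (h : MAb U A) : Nat.card A = mA U := by
  obtain ⟨B, hB, he⟩ := exists_max U
  rw [← he]
  exact le_antisymm (hB.2.2 A h.1 h.2.1) (h.2.2 B hB.1 hB.2.1)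

theorem card_le_mA {U A : Subgroup Ω} [Finite U] (h1 : A ≤ U) (h2 : IsMulCommutative A) :
    Nat.card A ≤ mA U :=
  le_csSup (bddAbove_ab U) ⟨A, ⟨h1, h2⟩, rfl⟩

theorem mA_mono {U V : Subgroup Ω} [Finite V] (h : U ≤ V) : mA U ≤ mA V := by
  haveI := finite_of_le h
  obtain ⟨A, hA, he⟩ := exists_max U
  exact he ▸ card_le_mA (hA.1.trans h) hA.2.1

theorem mAb_of_mA_eq {U V A : Subgroup Ω} [Finite V] (h : U ≤ V) (he : mA U = mA V) (hA : MAb U A) :
    MAb V A := by
  haveI := finite_of_le h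
  exact ⟨hA.1.trans h, hA.2.1, fun B h1 h2 =>
    ((card_le_mA h1 h2).trans he.ge).trans (card_eq_mA hA).ge⟩

theorem jA_mono {U V : Subgroup Ω} [Finite V] (h : U ≤ V) (he : mA U = mA V) : jA U ≤ jA V := by
  rw [jA_eq_sSup]
  exact sSup_le fun A hA => (mAb_of_mA_eq h he hA).le_jA

theorem mem_of_commute {R A : Subgroup Ω} [Finite R] (h : MAb R A) {w : Ω} (hw : w ∈ R)
    (hc : ∀ a ∈ A, Commute w a) : w ∈ A := by
  have hcomm : IsMulCommutative (A ⊔ Subgroup.zpowers w : Subgroup Ω) := by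
    refine LocalEven62.isMulCommutative_sup (fun a ha b hb => h.commute ha hb) ?_ ?_
    · rintro a ⟨i, rfl⟩ b ⟨j, rfl⟩
      exact Commute.zpow_zpow (Commute.refl w) i j
    · rintro a ha b ⟨j, rfl⟩
      exact (hc a ha).symm.zpow_right j
  have hle : A ⊔ Subgroup.zpowers w ≤ R := sup_le h.1 (Subgroup.zpowers_le.2 hw)
  haveI := finite_of_le hle
  have he := Subgroup.eq_of_le_of_card_ge (le_sup_left : A ≤ A ⊔ Subgroup.zpowers w) (h.2.2 _ hle hcomm)
  exact he ▸ Subgroup.mem_sup_right (Subgroup.mem_zpowers w)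

theorem centralizer_inf_le_jA {R : Subgroup Ω} [Finite R] {w : Ω} (hw : w ∈ R)
    (hc : w ∈ Subgroup.centralizer (jA R : Set Ω)) : w ∈ jA R := by
  obtain ⟨A, hA, -⟩ := exists_max R
  exact hA.le_jA (mem_of_commute hA hw fun a ha =>
    (Subgroup.mem_centralizer_iff.mp hc a (hA.le_jA ha)).symm)

theorem mA_jA (U : Subgroup Ω) [Finite U] : mA (jA U) = mA U := by
  haveI := finite_of_le (jA_le U)
  obtain ⟨A, hA, he⟩ := exists_max U
  exact le_antisymm (mA_mono (jA_le U)) (he ▸ card_le_mA hA.le_jA hA.2.1)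

theorem jA_jA (U : Subgroup Ω) [Finite U] : jA (jA U) = jA U := by
  haveI := finite_of_le (jA_le U)
  refine le_antisymm (jA_le _) ?_
  conv_lhs => rw [jA_eq_sSup]
  refine sSup_le fun A hA => MAb.le_jA ⟨hA.le_jA, hA.2.1, fun B h1 h2 => ?_⟩
  exact (card_le_mA h1 h2).trans ((mA_jA U).le.trans (card_eq_mA hA).ge)

theorem jA_sandwich {U V : Subgroup Ω} [Finite V] (h1 : U ≤ V) (h2 : jA V ≤ U) : jA U = jA V := by
  haveI := finite_of_le h1
  have he : mA U = mA V := by
    haveI := finite_of_le (jA_le V)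
    exact le_antisymm (mA_mono h1) ((mA_jA V).ge.trans (mA_mono h2))
  refine le_antisymm (jA_mono h1 he) ?_
  rw [jA_eq_sSup]
  exact sSup_le fun A hA =>
    MAb.le_jA ⟨hA.le_jA.trans h2, hA.2.1, fun B hB hc => hA.2.2 B (hB.trans h1) hc⟩

theorem normalizer_le_jA (U : Subgroup Ω) :
    Subgroup.normalizer (U : Set Ω) ≤ Subgroup.normalizer (jA U : Set Ω) := by
  intro g hg
  refine Subgroup.mem_normalizer_iff_map_conj_eq.mpr ?_
  show (jA U).map (MulAut.conj g).toMonoidHom = jA U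
  rw [← jA_map (MulAut.conj g).injective, show U.map (MulAut.conj g).toMonoidHom = U from
    Subgroup.mem_normalizer_iff_map_conj_eq.mp hg]

theorem mAb_top_map {P : Subgroup Ω} {H : Type*} [Group H] {φ : P →* H} (hφ : Function.Injective φ)
    {A₀ : Subgroup P} : MAb φ.range (A₀.map φ) ↔ MAb (⊤ : Subgroup P) A₀ := by
  rw [MonoidHom.range_eq_map]; exact mAb_map hφ

/-- The invariants of the image of an injective map. -/
theorem invariants_map {S : Subgroup Ω} {F : FusionSystem S} {U V : Subgroup Ω} {f : Ω → Ω}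
    (hf : IsIso F U V f) [Finite U] :
    mA V = mA U ∧ Nat.card (jA V) = Nat.card (jA U) ∧ f '' (jA U : Set Ω) = (jA V : Set Ω) := by
  obtain ⟨φ, hφ, hφf⟩ := id hf.1
  have hinj : Function.Injective φ := F.injective_of_mem hφ
  have hV : V = φ.range := by
    apply SetLike.coe_injective
    rw [← hf.2]
    ext z
    exact ⟨fun ⟨x, hx, he⟩ => ⟨⟨x, hx⟩, (hφf _).trans he⟩, fun ⟨x, he⟩ => ⟨x, x.2, (hφf x).symm.trans he⟩⟩
  have hU : U = U.subtype.range := U.range_subtype.symm
  haveI : Finite V := hV ▸ Finite.of_surjective φ.rangeRestrict φ.rangeRestrict_surjective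
  have e1 : jA V = (jA (⊤ : Subgroup U)).map φ := by rw [hV, MonoidHom.range_eq_map, jA_map hinj]
  have e2 : jA U = (jA (⊤ : Subgroup U)).map U.subtype := by
    conv_lhs => rw [hU, MonoidHom.range_eq_map, jA_map U.subtype_injective]
  refine ⟨?_, ?_, ?_⟩
  · haveI : Finite (⊤ : Subgroup U) := inferInstance
    obtain ⟨A₀, hA₀, -⟩ := exists_max (⊤ : Subgroup U)
    have h1 : MAb V (A₀.map φ) := by rw [hV]; exact (mAb_top_map hinj).mpr hA₀
    have h2 : MAb U (A₀.map U.subtype) := by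
      conv => arg 1; rw [hU]
      exact (mAb_top_map U.subtype_injective).mpr hA₀
    rw [← card_eq_mA h1, ← card_eq_mA h2, Subgroup.card_map_of_injective hinj,
      Subgroup.card_map_of_injective U.subtype_injective]
  · rw [e1, e2, Subgroup.card_map_of_injective hinj,
      Subgroup.card_map_of_injective U.subtype_injective]
  · rw [e1, e2, Subgroup.coe_map, Subgroup.coe_map, Set.image_image]
    exact Set.image_congr fun x _ => (hφf x).symm

/-- The class of `U` : the pair `(m(U), |J(U)|)`. -/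
noncomputable def cls (N : ℕ) (U : Subgroup Ω) : ℕ := mA U * N + Nat.card (jA U)

/-- The measure `(m(U), |J(U)|, |U|)`. -/
noncomputable def mu (N : ℕ) (U : Subgroup Ω) : ℕ := cls N U * N + Nat.card U

theorem cls_mono {N : ℕ} {U V : Subgroup Ω} [Finite V] (hN : Nat.card V < N) (h : U ≤ V) :
    cls N U ≤ cls N V := by
  haveI := finite_of_le h
  rcases (mA_mono h).lt_or_eq with hlt | he
  · have h1 : (mA U + 1) * N ≤ mA V * N := Nat.mul_le_mul_right N hlt
    have h2 : Nat.card (jA U) ≤ Nat.card U := Subgroup.card_le_of_le (jA_le U)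
    have h3 : Nat.card U ≤ Nat.card V := Subgroup.card_le_of_le h
    simp only [cls]
    rw [add_one_mul] at h1
    omega
  · haveI := finite_of_le (jA_le V)
    simp only [cls, he]
    exact Nat.add_le_add_left (Subgroup.card_le_of_le (jA_mono h he)) _

theorem mu_lt_of_lt {N : ℕ} {U V : Subgroup Ω} [Finite V] (hN : Nat.card V < N) (h : U < V) :
    mu N U < mu N V := by
  have h1 := Nat.mul_le_mul_right N (cls_mono hN h.le)
  have h2 : Nat.card U < Nat.card V := lt_of_le_of_ne (Subgroup.card_le_of_le h.le) fun he =>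
    h.ne (Subgroup.eq_of_le_of_card_ge h.le he.ge)
  simp only [mu]
  omega

/-- A larger class from a new abelian subgroup. -/
theorem cls_lt {N : ℕ} {X V A : Subgroup Ω} [Finite V] (hN : Nat.card V < N) (hX : jA X = X)
    (hXV : X ≤ V) (hA : A ≤ V) (hAc : IsMulCommutative A) (hm : mA X ≤ Nat.card A) (hAX : ¬ A ≤ X) :
    cls N X < cls N V := by
  haveI := finite_of_le hXV
  rcases (mA_mono hXV).lt_or_eq with hlt | he
  · have h1 : (mA X + 1) * N ≤ mA V * N := Nat.mul_le_mul_right N hlt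
    have h2 : Nat.card X ≤ Nat.card V := Subgroup.card_le_of_le hXV
    simp only [cls, hX]
    rw [add_one_mul] at h1
    omega
  · haveI := finite_of_le (jA_le V)
    have hAV : MAb V A := ⟨hA, hAc, fun B h1 h2 => ((card_le_mA h1 h2).trans he.ge).trans hm⟩
    have hle : X < jA V := lt_of_le_of_ne (hX ▸ jA_mono hXV he) fun h => hAX (h ▸ hAV.le_jA)
    simp only [cls, he, hX]
    exact Nat.add_lt_add_left (lt_of_le_of_ne (Subgroup.card_le_of_le hle.le) fun hc =>
      hle.ne (Subgroup.eq_of_le_of_card_ge hle.le hc.ge)) _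

theorem mu_lt_of_cls_lt {N : ℕ} {U V : Subgroup Ω} (hN : Nat.card U < N) (h : cls N U < cls N V) :
    mu N U < mu N V := by
  have h1 : (cls N U + 1) * N ≤ cls N V * N := Nat.mul_le_mul_right N h
  simp only [mu]
  rw [add_one_mul] at h1
  omega

theorem invariants_eq {S : Subgroup Ω} {F : FusionSystem S} {U V : Subgroup Ω} {f : Ω → Ω} {N : ℕ}
    (hf : IsIso F U V f) [Finite U] : cls N V = cls N U ∧ mu N V = mu N U := by
  obtain ⟨h1, h2, -⟩ := invariants_map hf
  have h3 : cls N V = cls N U := by simp only [cls, h1, h2]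
  exact ⟨h3, by simp only [mu, h3, hf.card_eq]⟩

end Cfsg.Agent.Fus93.FixCentre
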