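import Cfsg.Agent.Fus93.FixCentre.Local

/-!
A point of the coset `y Z(U)` fixed by extensions of all automorphisms of `U` in the subsystem
-/

set_option autoImplicit false
set_option linter.style.haveILetI false

namespace Cfsg.Agent.Fus93.FixCentre

open Cfsg Cfsg.Agent.Fusion Cfsg.Agent.Fusion.NormalLift
open Cfsg.FusionSystem (normalizerIn centralizerIn)
open scoped Pointwise

variable {Ω : Type*} [Group Ω] {S T : Subgroup Ω} {F : FusionSystem S} {E : FusionSystem T} {p : ℕ}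
  [Finite S] [Fact p.Prime]

/-- The group of lifts of `Aut_E(R)` to `R C_S(R)`. -/
def liftGroup (F : FusionSystem S) (E : FusionSystem T) (R : Subgroup Ω) :
    Subgroup (MulAut ↥(R ⊔ centralizerIn S R)) :=
  Subgroup.closure {γ | γ ∈ F.autGroup (R ⊔ centralizerIn S R) ∧
    (∃ α ∈ E.autGroup R, Set.EqOn (autFun γ) (autFun α) R) ∧
    ∀ c ∈ centralizerIn S R, c⁻¹ * autFun γ c ∈ R}

theorem mem_liftGroup {R : Subgroup Ω} (hR : R ≤ S) {γ : MulAut ↥(R ⊔ centralizerIn S R)} :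
    γ ∈ liftGroup F E R ↔ γ ∈ F.autGroup (R ⊔ centralizerIn S R) ∧
      (∃ α ∈ E.autGroup R, Set.EqOn (autFun γ) (autFun α) R) ∧
      ∀ c ∈ centralizerIn S R, c⁻¹ * autFun γ c ∈ R := by
  set C := {γ : MulAut ↥(R ⊔ centralizerIn S R) | γ ∈ F.autGroup (R ⊔ centralizerIn S R) ∧
    (∃ α ∈ E.autGroup R, Set.EqOn (autFun γ) (autFun α) R) ∧
    ∀ c ∈ centralizerIn S R, c⁻¹ * autFun γ c ∈ R} with hC
  have hDS : R ⊔ centralizerIn S R ≤ S := sup_le hR (centralizerIn_le _ _)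
  haveI := finite_of_le hDS
  haveI := finite_mulAut ↥(R ⊔ centralizerIn S R)
  have h1 : (1 : MulAut ↥(R ⊔ centralizerIn S R)) ∈ C := by
    refine ⟨one_mem _, ⟨1, one_mem _, fun x hx => ?_⟩, fun c hc => ?_⟩
    · rw [autFun_one (Subgroup.mem_sup_left hx : x ∈ R ⊔ centralizerIn S R), autFun_one hx]
    · rw [autFun_one (Subgroup.mem_sup_right hc : c ∈ R ⊔ centralizerIn S R)]; simp
  have hm : ∀ {a b}, a ∈ C → b ∈ C → a * b ∈ C := by
    rintro a b ⟨ha, ⟨α, hα, hae⟩, hac⟩ ⟨hb, ⟨β, hβ, hbe⟩, hbc⟩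
    refine ⟨mul_mem ha hb, ⟨α * β, mul_mem hα hβ, fun x hx => ?_⟩, fun c hc => ?_⟩
    · rw [autFun_mul _ _ (Subgroup.mem_sup_left hx : x ∈ R ⊔ centralizerIn S R), autFun_mul _ _ hx,
        Function.comp_apply, Function.comp_apply, hbe hx]
      exact hae (autFun_of_mem β hx ▸ (β _).2)
    · have hiso := ((mem_autGroup hDS).mp ha).1
      have hcD : c ∈ R ⊔ centralizerIn S R := Subgroup.mem_sup_right hc
      have h1 : autFun a (c⁻¹ * autFun b c) ∈ R := by
        rw [hae (hbc c hc), autFun_of_mem α (hbc c hc)]; exact (α _).2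
      have h2 := R.mul_mem (hac c hc) h1
      rw [mul_assoc, ← hiso.map_mul hcD (Subgroup.mem_sup_left (hbc c hc)), mul_inv_cancel_left] at h2
      rwa [autFun_mul _ _ hcD]
  let M : Subgroup (MulAut ↥(R ⊔ centralizerIn S R)) :=
    { carrier := C
      one_mem' := h1
      mul_mem' := fun ha hb => hm ha hb
      inv_mem' := fun {a} ha => by
        obtain ⟨m, hmm⟩ := mem_powers_iff_mem_zpowers.mpr
          (Subgroup.inv_mem _ (Subgroup.mem_zpowers a) : a⁻¹ ∈ Subgroup.zpowers a)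
        rw [← hmm]
        clear hmm
        induction m with
        | zero => simpa using h1
        | succ m ih => show a ^ (m + 1) ∈ C; rw [pow_succ]; exact hm ih ha }
  unfold liftGroup
  constructor
  · exact fun h => (Subgroup.closure_le M).mpr (fun x hx => hx) h
  · exact fun h => Subgroup.subset_closure h

set_option maxHeartbeats 3200000 in
/-- A fixed point in `y Z(R)`, for fully normalized `R`. -/
theorem exists_point (h : NData F E p) {R : Subgroup Ω} (hR : F.IsFullyNormalized R) (hRT : R ≤ T)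
    (hc : centralizerIn T R ≤ R) (hD : F.IsFullyNormalized (R ⊔ centralizerIn S R)) {y : Ω}
    (hy : y ∈ centralizerIn S R) (hyT : ∀ t ∈ normalizerIn T R, t * y * t⁻¹ = y) :
    ∃ a ∈ R ⊓ centralizerIn S R, (∀ t ∈ normalizerIn T R, t * a * t⁻¹ = a) ∧
      ∀ α ∈ E.autGroup R, ∃ γ, IsMap F (R ⊔ centralizerIn S R) γ ∧ Set.EqOn γ (autFun α) R ∧
        γ (y * a) = y * a := by
  classical
  haveI := h.finiteT
  have hRS := hR.1
  haveI := finite_of_le hRS
  haveI := finite_mulAut R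
  have hDS : R ⊔ centralizerIn S R ≤ S := sup_le hRS (centralizerIn_le _ _)
  haveI := finite_of_le hDS
  haveI := finite_mulAut ↥(R ⊔ centralizerIn S R)
  haveI := finite_of_le (centralizerIn_le S R)
  set L := liftGroup F E R with hL
  have hLm : ∀ γ : L, (γ : MulAut ↥(R ⊔ centralizerIn S R)) ∈ F.autGroup (R ⊔ centralizerIn S R) ∧
      (∃ α ∈ E.autGroup R, Set.EqOn (autFun (γ : MulAut ↥(R ⊔ centralizerIn S R))) (autFun α) R) ∧
      ∀ c ∈ centralizerIn S R, c⁻¹ * autFun (γ : MulAut ↥(R ⊔ centralizerIn S R)) c ∈ R := fun γ =>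
    (mem_liftGroup hRS).mp γ.2
  have hiso : ∀ γ : L, IsIso F _ _ (autFun (γ : MulAut ↥(R ⊔ centralizerIn S R))) := fun γ =>
    (mem_autGroup hDS).mp (hLm γ).1
  have himR : ∀ γ : L, autFun (γ : MulAut ↥(R ⊔ centralizerIn S R)) '' (R : Set Ω) = (R : Set Ω) := fun γ => by
    obtain ⟨α, -, he⟩ := (hLm γ).2.1
    exact (Set.image_congr he).trans (autFun_image _)
  have hRD : ∀ {x}, x ∈ R → x ∈ R ⊔ centralizerIn S R := fun hx => Subgroup.mem_sup_left hx
  have hCD : ∀ {x}, x ∈ centralizerIn S R → x ∈ R ⊔ centralizerIn S R :=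
    fun hx => Subgroup.mem_sup_right hx
  -- restriction
  have hres : ∀ γ : L, ∃ α : ↥(E.autGroup R), Set.EqOn (autFun (γ : MulAut ↥(R ⊔ centralizerIn S R))) (autFun (α : MulAut R)) R :=
    fun γ => by obtain ⟨α, hα, he⟩ := (hLm γ).2.1; exact ⟨⟨α, hα⟩, he⟩
  choose resF hresF using hres
  have hunique : ∀ (γ : L) (α : ↥(E.autGroup R)),
      Set.EqOn (autFun (γ : MulAut ↥(R ⊔ centralizerIn S R))) (autFun (α : MulAut R)) R → resF γ = α := fun γ α he =>
    Subtype.ext (MulEquiv.ext fun x => Subtype.ext (by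
      rw [← autFun_coe (resF γ : MulAut R), ← autFun_coe (α : MulAut R), ← he x.2, hresF γ x.2]))
  let res : L →* ↥(E.autGroup R) :=
    { toFun := resF
      map_one' := hunique _ _ fun x hx => by
        rw [OneMemClass.coe_one, autFun_one (hRD hx), OneMemClass.coe_one, autFun_one hx]
      map_mul' := fun γ δ => hunique _ _ fun x hx => by
        rw [Subgroup.coe_mul, autFun_mul _ _ (hRD hx), Subgroup.coe_mul, autFun_mul _ _ hx,
          Function.comp_apply, Function.comp_apply, hresF δ hx]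
        exact hresF γ (autFun_of_mem (resF δ : MulAut R) hx ▸ ((resF δ : MulAut R) _).2) }
  have hsurj : Function.Surjective res := fun α => by
    obtain ⟨γ, hγ, hγe, hγc⟩ := h.exists_lift hR hRT hc α α.2
    exact ⟨⟨γ, (mem_liftGroup hRS).mpr ⟨hγ, ⟨α, α.2, hγe⟩, hγc⟩⟩, hunique _ _ hγe⟩
  obtain ⟨U₀, hU₀⟩ := (fullyAutomized_of_fullyNormalized h.tp h.eSat (h.fullyNormalized_e hR hRT)).2
  set P₁ := (U₀ : Subgroup _).comap res with hP₁
  have hidx : ¬ p ∣ P₁.index := by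
    rw [hP₁, Subgroup.index_comap_of_surjective _ hsurj]; exact U₀.not_dvd_index
  -- the kernel is induced by `S` and is central
  set K := F.autGroup (R ⊔ centralizerIn S R) ⊓ fixMod (R ⊔ centralizerIn S R) R with hK
  have hND : normalizerIn S R ≤ Subgroup.normalizer ((R ⊔ centralizerIn S R : Subgroup Ω) : Set Ω) := by
    intro s hs
    refine mem_normalizer_sup hs.2 ?_
    have key : ∀ u ∈ normalizerIn S R, ∀ c ∈ centralizerIn S R, u * c * u⁻¹ ∈ centralizerIn S R :=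
      fun u hu c hc' => ⟨S.mul_mem (S.mul_mem hu.1 hc'.1) (S.inv_mem hu.1),
        Subgroup.mem_centralizer_iff.mpr fun z hz => by
          have h1 : u⁻¹ * z * u ∈ R := by
            simpa using conj_mem_of_mem_normalizer (Subgroup.inv_mem _ hu.2) hz
          calc z * (u * c * u⁻¹) = u * (u⁻¹ * z * u * c) * u⁻¹ := by group
            _ = u * (c * (u⁻¹ * z * u)) * u⁻¹ := by rw [Subgroup.mem_centralizer_iff.mp hc'.2 _ h1]
            _ = u * c * u⁻¹ * z := by group⟩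
    refine Subgroup.mem_normalizer_iff.mpr fun c => ⟨key s hs c, fun hc' => ?_⟩
    simpa [mul_assoc] using key s⁻¹ (Subgroup.inv_mem _ hs) _ hc'
  have hKI : K ≤ autInducedBy (normalizerIn S R) (R ⊔ centralizerIn S R) := by
    refine induced_of_pGroup h.pgroup h.sat hR hD le_sup_left hND K inf_le_left
      ((fixMod_isPGroup (h.pgroup.to_le hDS)).to_le inf_le_right) (fun a ha => ?_) ?_
    · refine (Set.image_congr fun x hx => ?_).trans (Set.image_id _)
      rw [autFun_of_mem a (hRD hx)]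
      exact congrArg Subtype.val (ha.2.1 ⟨x, hRD hx⟩ hx)
    · intro b hb
      have hbF : b ∈ F.autGroup (R ⊔ centralizerIn S R) :=
        autInducedBy_le_autGroup hDS (autInducedBy_mono (normalizerIn_le _ _) hb)
      obtain ⟨g, hg, hge⟩ := mem_autInducedBy.mp hb
      have hbR : ∀ b' : MulAut ↥(R ⊔ centralizerIn S R), (∃ g ∈ normalizerIn S R,
          ∀ x, (b' x : Ω) = g * x * g⁻¹) → ∀ x : ↥(R ⊔ centralizerIn S R), ((b' x : _) : Ω) ∈ R ↔ (x : Ω) ∈ R := by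
        rintro b' ⟨g, hg, hge⟩ x
        rw [hge]
        exact (Subgroup.mem_normalizer_iff.mp hg.2 _).symm
      refine Subgroup.mem_normalizer_iff_map_conj_eq.mpr (Subgroup.eq_of_le_of_card_ge ?_
        (Subgroup.card_map_of_injective (MulAut.conj b).injective).ge)
      rintro _ ⟨a, ha, rfl⟩
      exact ⟨Subgroup.mul_mem _ (Subgroup.mul_mem _ hbF ha.1) (Subgroup.inv_mem _ hbF), fixMod_conj ha.2 (hbR b ⟨g, hg, hge⟩)⟩
  have hkerK : ∀ γ : L, res γ = 1 → (γ : MulAut ↥(R ⊔ centralizerIn S R)) ∈ K := by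
    intro γ hγ
    have he : ∀ x ∈ R, autFun (γ : MulAut ↥(R ⊔ centralizerIn S R)) x = x := fun x hx => by
      rw [hresF γ hx, show resF γ = 1 from hγ, OneMemClass.coe_one, autFun_one hx]; rfl
    refine ⟨(hLm γ).1, fun x hx => Subtype.ext (by rw [← autFun_coe]; exact he _ hx), fun x => ?_⟩
    rw [Subgroup.coe_mul, Subgroup.coe_inv, ← autFun_coe]
    obtain ⟨r, hr, c, hcc, hx⟩ : (x : Ω) ∈ (R : Set Ω) * (centralizerIn S R : Set Ω) := by
      rw [← Subgroup.coe_mul_of_right_le_normalizer_left R (centralizerIn S R)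
        (inf_le_right.trans (Subgroup.centralizer_le_normalizer _))]
      exact x.2
    simp only at hx
    rw [← hx, (hiso γ).1.map_mul (hRD hr) (hCD hcc), he r hr]
    rw [show (r * c)⁻¹ * (r * autFun (γ : MulAut ↥(R ⊔ centralizerIn S R)) c) = c⁻¹ * autFun (γ : MulAut ↥(R ⊔ centralizerIn S R)) c by group]
    exact (hLm γ).2.2 c hcc
  -- kernel elements are central
  have hcen : ∀ k γ : L, res k = 1 → γ * k = k * γ := by
    intro k γ hk
    obtain ⟨s, hs, hse⟩ := mem_autInducedBy.mp (hKI (hkerK k hk))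
    have hkR : ∀ x ∈ R, autFun (k : MulAut ↥(R ⊔ centralizerIn S R)) x = x := fun x hx => by
      rw [hresF k hx, show resF k = 1 from hk, OneMemClass.coe_one, autFun_one hx]; rfl
    have hsC : s ∈ centralizerIn S R := by
      refine ⟨hs.1, Subgroup.mem_centralizer_iff.mpr fun x hx => ?_⟩
      have h1 : autFun (k : MulAut ↥(R ⊔ centralizerIn S R)) x = s * x * s⁻¹ := by
        rw [autFun_of_mem _ (hRD hx)]; exact hse _
      rw [hkR x hx] at h1
      exact eq_mul_inv_iff_mul_eq.mp h1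
    have hkc : ∀ x ∈ centralizerIn S R,
        autFun (k : MulAut ↥(R ⊔ centralizerIn S R)) x = x * (x⁻¹ * (s * x * s⁻¹)) := fun x hx => by
      rw [autFun_of_mem _ (hCD hx), hse]; group
    have hkw : ∀ x ∈ centralizerIn S R, x⁻¹ * (s * x * s⁻¹) ∈ R := fun x hx => by
      have h1 := (hLm k).2.2 x hx
      rwa [hkc x hx, inv_mul_cancel_left] at h1
    have hfix : ∀ (δ : L) (x : Ω), x ∈ centralizerIn S R →
        autFun (δ : MulAut ↥(R ⊔ centralizerIn S R)) (x⁻¹ * (s * x * s⁻¹)) = x⁻¹ * (s * x * s⁻¹) := fun δ x hx =>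
      fixes_commutator (hiso δ).1 (hLm δ).2.2 (himR δ) hx hsC
    have key : ∀ z ∈ R ⊔ centralizerIn S R,
        autFun (γ : MulAut ↥(R ⊔ centralizerIn S R)) (autFun (k : MulAut ↥(R ⊔ centralizerIn S R)) z) = autFun (k : MulAut ↥(R ⊔ centralizerIn S R)) (autFun (γ : MulAut ↥(R ⊔ centralizerIn S R)) z) := by
      refine eqOn_sup ((hiso k).1.comp (hiso γ).1 fun z hz => (hiso k).mem hz)
        ((hiso γ).1.comp (hiso k).1 fun z hz => (hiso γ).mem hz) le_sup_left le_sup_right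
        (fun x hx => ?_) fun x hx => ?_
      · have hgx : autFun (γ : MulAut ↥(R ⊔ centralizerIn S R)) x ∈ R := by
          rw [← SetLike.mem_coe, ← himR γ]; exact ⟨x, hx, rfl⟩
        show autFun _ (autFun _ x) = autFun _ (autFun _ x)
        rw [hkR x hx, hkR _ hgx]
      · have hgx : autFun (γ : MulAut ↥(R ⊔ centralizerIn S R)) x ∈ centralizerIn S R :=
          map_mem_centralizer (hiso γ).1 le_sup_left (himR γ) (hCD hx) hx.2
        show autFun _ (autFun _ x) = autFun _ (autFun _ x)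
        rw [hkc x hx, (hiso γ).1.map_mul (hCD hx) (hRD (hkw x hx)), hfix γ x hx]
        obtain ⟨b, hbR, hbe⟩ : ∃ b ∈ R, autFun (γ : MulAut ↥(R ⊔ centralizerIn S R)) x = x * b :=
          ⟨x⁻¹ * autFun (γ : MulAut ↥(R ⊔ centralizerIn S R)) x, (hLm γ).2.2 x hx, by group⟩
        rw [hbe, (hiso k).1.map_mul (hCD hx) (hRD hbR), hkR b hbR, hkc x hx]
        have hwC : x⁻¹ * (s * x * s⁻¹) ∈ centralizerIn S R :=
          mul_mem (inv_mem hx) (mul_mem (mul_mem hsC hx) (inv_mem hsC))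
        rw [mul_assoc x b, Subgroup.mem_centralizer_iff.mp hwC.2 b hbR, ← mul_assoc x]
    refine Subtype.ext (MulEquiv.ext fun z => Subtype.ext ?_)
    rw [Subgroup.coe_mul, Subgroup.coe_mul, ← autFun_coe, ← autFun_coe, autFun_mul _ _ z.2,
      autFun_mul _ _ z.2]
    exact key z z.2
  -- the lifts induced by `N_T(R)`
  have hN : normalizerIn T R ≤ normalizerIn S R := fun x hx => ⟨h.tS hx.1, hx.2⟩
  have hcT : ∀ t ∈ normalizerIn T R, ∃ γ : L, ∀ x : ↥(R ⊔ centralizerIn S R),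
      ((γ : MulAut ↥(R ⊔ centralizerIn S R)) x : Ω) = t * x * t⁻¹ := by
    intro t ht
    have hnt : t ∈ normalizerIn S (R ⊔ centralizerIn S R) := ⟨h.tS ht.1, hND (hN ht)⟩
    refine ⟨⟨conjAutHom S _ ⟨t, hnt⟩, (mem_liftGroup hRS).mpr ⟨autInducedBy_le_autGroup hDS
      (by rw [← range_conjAutHom]; exact ⟨_, rfl⟩), ⟨conjAutHom T R ⟨t, ht⟩,
        autInducedBy_le_autGroup hRT (by rw [← range_conjAutHom]; exact ⟨_, rfl⟩), fun x hx => ?_⟩,
      fun c hcc => ?_⟩⟩, fun x => rfl⟩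
    · rw [autFun_of_mem _ (hRD hx), autFun_of_mem _ hx]; rfl
    · rw [autFun_of_mem _ (hCD hcc)]
      show c⁻¹ * (t * c * t⁻¹) ∈ R
      refine hc ⟨(h.comm_mem hcc.1 ht.1).2, Subgroup.mul_mem _ (Subgroup.inv_mem _ hcc.2) ?_⟩
      refine Subgroup.mem_centralizer_iff.mpr fun z hz => ?_
      have h1 : t⁻¹ * z * t ∈ R := by
        simpa using conj_mem_of_mem_normalizer (Subgroup.inv_mem _ ht.2) hz
      calc z * (t * c * t⁻¹) = t * (t⁻¹ * z * t * c) * t⁻¹ := by group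
        _ = t * (c * (t⁻¹ * z * t)) * t⁻¹ := by rw [Subgroup.mem_centralizer_iff.mp hcc.2 _ h1]
        _ = t * c * t⁻¹ * z := by group
  choose cT hcTe using hcT
  let τ : ↥(normalizerIn T R) →* L := MonoidHom.mk' (fun t => cT t t.2) fun t u => by
    refine Subtype.ext (MulEquiv.ext fun x => Subtype.ext ?_)
    rw [Subgroup.coe_mul (H := L), MulAut.mul_apply, hcTe, hcTe, hcTe]
    simp only [Subgroup.coe_mul]
    group
  have hτe : ∀ (t : ↥(normalizerIn T R)) (x : ↥(R ⊔ centralizerIn S R)),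
      (((τ t : L) : MulAut ↥(R ⊔ centralizerIn S R)) x : Ω) = t * x * (t : Ω)⁻¹ := fun t x => hcTe t t.2 x
  have hτres : ∀ t : ↥(normalizerIn T R), ∀ x : R,
      (((res (τ t) : ↥(E.autGroup R)) : MulAut R) x : Ω) = t * x * (t : Ω)⁻¹ := fun t x => by
    show ((((resF (τ t)) : ↥(E.autGroup R)) : MulAut R) x : Ω) = _
    rw [← autFun_coe (resF (τ t) : MulAut R)]
    rw [← hresF (τ t) x.2, autFun_of_mem _ (hRD x.2)]
    exact hτe t _
  have hP₁dec : ∀ γ ∈ P₁, ∃ t k, res k = 1 ∧ γ = τ t * k := by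
    intro γ hγ
    rw [hP₁, Subgroup.mem_comap, hU₀, Subgroup.mem_subgroupOf, mem_autInducedBy] at hγ
    obtain ⟨t, ht, hte⟩ := hγ
    let tN : ↥(normalizerIn T R) := ⟨t, ht, mem_normalizer_of_induces hte⟩
    refine ⟨tN, (τ tN)⁻¹ * γ, ?_, by group⟩
    rw [map_mul, map_inv, inv_mul_eq_one]
    exact Subtype.ext (MulEquiv.ext fun x => Subtype.ext ((hτres tN x).trans (hte x).symm))
  have hτP : ∀ t, τ t ∈ P₁ := fun t => by
    rw [hP₁, Subgroup.mem_comap, hU₀, Subgroup.mem_subgroupOf, mem_autInducedBy]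
    exact ⟨t, t.2.1, hτres t⟩
  have hkP : ∀ k, res k = 1 → k ∈ P₁ := fun k hk => by
    rw [hP₁, Subgroup.mem_comap, hk]; exact one_mem _
  set T₀ := τ.range.subgroupOf P₁ with hT₀
  haveI hT₀n : T₀.Normal := by
    refine ⟨fun a ha b => ?_⟩
    obtain ⟨t, k, hk, hb⟩ := hP₁dec b b.2
    obtain ⟨u, hu⟩ := ha
    refine ⟨t * u * t⁻¹, ?_⟩
    rw [map_mul, map_mul, map_inv, hu]
    show τ t * (a : L) * (τ t)⁻¹ = (b : L) * (a : L) * (b : L)⁻¹
    rw [hb, mul_inv_rev]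
    calc τ t * (a : L) * (τ t)⁻¹ = τ t * ((a : L) * k) * k⁻¹ * (τ t)⁻¹ := by group
      _ = τ t * (k * a) * k⁻¹ * (τ t)⁻¹ := by rw [hcen k a hk]
      _ = _ := by group
  have hcomm : ∀ a b : ↥P₁ ⧸ T₀, a * b = b * a := by
    intro a b
    obtain ⟨a, rfl⟩ := QuotientGroup.mk_surjective a
    obtain ⟨b, rfl⟩ := QuotientGroup.mk_surjective b
    have hq : ∀ x : ↥P₁, ∃ k : ↥P₁, res (k : L) = 1 ∧ (x : ↥P₁ ⧸ T₀) = k := fun x => by
      obtain ⟨t, k, hk, hx⟩ := hP₁dec x x.2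
      refine ⟨⟨k, hkP k hk⟩, hk, ?_⟩
      have : x = ⟨τ t, hτP t⟩ * ⟨k, hkP k hk⟩ := Subtype.ext hx
      rw [this, QuotientGroup.mk_mul, (QuotientGroup.eq_one_iff _).mpr (show _ ∈ T₀ from ⟨t, rfl⟩),
        one_mul]
    obtain ⟨k, hk, hke⟩ := hq a
    obtain ⟨l, hl, hle⟩ := hq b
    rw [hke, hle, ← QuotientGroup.mk_mul, ← QuotientGroup.mk_mul,
      show k * l = l * k from Subtype.ext (hcen l k hl)]
  letI : CommGroup (↥P₁ ⧸ T₀) := { (inferInstance : Group (↥P₁ ⧸ T₀)) with mul_comm := hcomm }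
  let φ : ↥P₁ →* ↥P₁ ⧸ T₀ := QuotientGroup.mk' T₀
  haveI : Finite L := inferInstance
  haveI := Fintype.ofFinite (L ⧸ P₁)
  let tr : L →* ↥P₁ ⧸ T₀ := MonoidHom.transfer φ
  -- strong closure kills the lifts from `T`
  have hSC : ∀ (γ : L) (t : ↥(normalizerIn T R)), γ * τ t * γ⁻¹ ∈ P₁ → γ * τ t * γ⁻¹ ∈ τ.range := by
    intro γ t ht
    obtain ⟨u, k, hk, hue⟩ := hP₁dec _ ht
    obtain ⟨s, hs, hse⟩ := mem_autInducedBy.mp (hKI (hkerK k hk))
    have hind : ∀ x : ↥(R ⊔ centralizerIn S R),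
        (((γ * τ t * γ⁻¹ : L) : MulAut ↥(R ⊔ centralizerIn S R)) x : Ω) = (u * s) * x * ((u : Ω) * s)⁻¹ := fun x => by
      rw [hue, Subgroup.coe_mul, MulAut.mul_apply, hτe, hse]; group
    have huS : (u : Ω) * s ∈ S := S.mul_mem (h.tS u.2.1) hs.1
    have husn : (u : Ω) * s ∈ normalizerIn S (R ⊔ centralizerIn S R) :=
      ⟨huS, mem_normalizer_of_induces hind⟩
    have hext : IsExtendable S (R ⊔ centralizerIn S R) (autFun (γ : MulAut ↥(R ⊔ centralizerIn S R)))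
        (Subgroup.zpowers (t : Ω)) := by
      refine ⟨(Subgroup.zpowers_le).mpr (h.tS t.2.1), fun g hg => ?_⟩
      obtain ⟨n, rfl⟩ := Subgroup.mem_zpowers_iff.mp hg
      refine ⟨Subgroup.zpow_mem _ (hND (hN t.2)) n, ((u : Ω) * s) ^ n, S.zpow_mem huS n, fun x hx => ?_⟩
      have hc2 : ((γ : MulAut ↥(R ⊔ centralizerIn S R)) * (((τ t : L) : MulAut ↥(R ⊔ centralizerIn S R))) ^ n * (γ : MulAut ↥(R ⊔ centralizerIn S R))⁻¹) =
          (conjAutHom S _ ⟨_, husn⟩) ^ n := by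
        rw [← conj_zpow]
        congr 1
        exact MulEquiv.ext fun z => Subtype.ext (hind z)
      have hτn : ((τ t : L) : MulAut ↥(R ⊔ centralizerIn S R)) ^ n = ((τ (t ^ n) : L) : MulAut ↥(R ⊔ centralizerIn S R)) := by
        rw [map_zpow, SubgroupClass.coe_zpow]
      rw [← map_zpow, hτn] at hc2
      have h2 := DFunLike.congr_fun hc2 ((γ : MulAut ↥(R ⊔ centralizerIn S R)) ⟨x, hx⟩)
      rw [MulAut.mul_apply, MulAut.mul_apply,
        show (γ : MulAut ↥(R ⊔ centralizerIn S R))⁻¹ ((γ : MulAut ↥(R ⊔ centralizerIn S R)) ⟨x, hx⟩) = ⟨x, hx⟩ from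
          (γ : MulAut ↥(R ⊔ centralizerIn S R)).symm_apply_apply _] at h2
      have h3 := congrArg Subtype.val h2
      rw [conjAutHom_apply, ← autFun_coe (γ : MulAut ↥(R ⊔ centralizerIn S R)) (((τ (t ^ n) : L) : MulAut ↥(R ⊔ centralizerIn S R)) ⟨x, hx⟩), hτe,
        SubgroupClass.coe_zpow, ← autFun_of_mem (γ : MulAut ↥(R ⊔ centralizerIn S R)) hx] at h3
      simpa using h3
    have hDr : F.IsReceptive (R ⊔ centralizerIn S R) :=
      receptive_of_fullyNormalized h.pgroup h.sat hD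
    obtain ⟨f, hf, hfe⟩ := receptive_extend hDr (hiso γ) hext
    have htM : (t : Ω) ∈ (R ⊔ centralizerIn S R) ⊔ Subgroup.zpowers (t : Ω) :=
      Subgroup.mem_sup_right (Subgroup.mem_zpowers _)
    have hftT : f t ∈ T := Fusion92.closed_apply h.closed hf htM t.2.1
    have hftN : f t ∈ normalizerIn S R :=
      map_mem_normalizer hf (le_sup_left.trans le_sup_left)
        ((Set.image_congr (hfe.mono fun x hx => hRD hx)).trans (himR γ)) htM t.2.2
    refine ⟨⟨f t, hftT, hftN.2⟩, Subtype.ext (MulEquiv.ext fun z => Subtype.ext ?_)⟩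
    obtain ⟨x, rfl⟩ := (γ : MulAut ↥(R ⊔ centralizerIn S R)).surjective z
    rw [hτe, Subgroup.coe_mul, Subgroup.coe_mul, MulAut.mul_apply, MulAut.mul_apply,
      show ((γ⁻¹ : L) : MulAut ↥(R ⊔ centralizerIn S R)) ((γ : MulAut ↥(R ⊔ centralizerIn S R)) x) = x from
        (γ : MulAut ↥(R ⊔ centralizerIn S R)).symm_apply_apply _,
      ← autFun_coe (γ : MulAut ↥(R ⊔ centralizerIn S R)) x, ← hfe x.2, ← autFun_coe (γ : MulAut ↥(R ⊔ centralizerIn S R)) (((τ t : L) : MulAut ↥(R ⊔ centralizerIn S R)) x),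
      ← hfe ((((τ t : L) : MulAut ↥(R ⊔ centralizerIn S R)) x).2), hτe,
      hf.map_conj htM (Subgroup.mem_sup_left x.2)]
  have htrτ : ∀ t, tr (τ t) = 1 := by
    intro t
    haveI := Fintype.ofFinite (Quotient (MulAction.orbitRel (Subgroup.zpowers (τ t)) (L ⧸ P₁)))
    show MonoidHom.transfer φ (τ t) = 1
    rw [MonoidHom.transfer_eq_prod_quotient_orbitRel_zpowers_quot]
    refine Finset.prod_eq_one fun q _ => ?_
    refine (QuotientGroup.eq_one_iff _).mpr ?_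
    show _ ∈ τ.range.subgroupOf P₁
    rw [Subgroup.mem_subgroupOf]
    have hm := QuotientGroup.out_conj_pow_minimalPeriod_mem P₁ (τ t) q.out
    simp only
    rw [← map_pow] at hm ⊢
    have h1 := hSC (q.out.out)⁻¹ (t ^ _) (by rw [inv_inv]; exact hm)
    rwa [inv_inv] at h1
  have htrk : ∀ (k : L) (hk : res k = 1),
      tr k = φ ⟨k, hkP k hk⟩ ^ P₁.index := by
    intro k hk
    show MonoidHom.transfer φ k = _
    have hck : ∀ g : L, g * k = k * g := fun g => hcen k g hk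
    rw [MonoidHom.transfer_eq_pow φ k fun n g _ => by
      rw [mul_assoc, ← (Commute.pow_right (hck g) n).eq, inv_mul_cancel_left], ← map_pow]
    rfl
  have hQp : IsPGroup p (↥P₁ ⧸ T₀) := by
    intro a
    obtain ⟨a, rfl⟩ := QuotientGroup.mk_surjective a
    obtain ⟨t, k, hk, hx⟩ := hP₁dec a a.2
    obtain ⟨n, hn⟩ := fixMod_isPGroup (p := p) (Z := R) (h.pgroup.to_le hDS) ⟨_, (hkerK k hk).2⟩
    refine ⟨n, ?_⟩
    have : a = ⟨τ t, hτP t⟩ * ⟨k, hkP k hk⟩ := Subtype.ext hx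
    rw [this, QuotientGroup.mk_mul, (QuotientGroup.eq_one_iff _).mpr (show _ ∈ T₀ from ⟨t, rfl⟩),
      one_mul, ← QuotientGroup.mk_pow]
    refine (QuotientGroup.eq_one_iff _).mpr ?_
    have hk1 : k ^ p ^ n = 1 := Subtype.ext (by rw [SubgroupClass.coe_pow]; exact (congrArg Subtype.val hn : _))
    rw [show (⟨k, hkP k hk⟩ : ↥P₁) ^ p ^ n = 1 from Subtype.ext hk1]
    exact one_mem _
  have hcop : ∀ {n : ℕ}, Nat.Coprime P₁.index (p ^ n) := fun {n} =>
    Nat.Coprime.pow_right n ((Nat.Prime.coprime_iff_not_dvd Fact.out).mpr hidx).symm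
  -- every lift is a kernel element times an element killed by the transfer
  have hdecL : ∀ γ : L, ∃ k, res k = 1 ∧ tr γ = tr k := by
    intro γ
    obtain ⟨x, hx⟩ := QuotientGroup.mk'_surjective T₀ (tr γ)
    obtain ⟨t, k, hk, hxe⟩ := hP₁dec x x.2
    have hxk : tr γ = φ ⟨k, hkP k hk⟩ := by
      have : x = ⟨τ t, hτP t⟩ * ⟨k, hkP k hk⟩ := Subtype.ext hxe
      rw [← hx, this, map_mul,
        show (QuotientGroup.mk' T₀) ⟨τ t, hτP t⟩ = 1 from
          (QuotientGroup.eq_one_iff _).mpr (show _ ∈ T₀ from ⟨t, rfl⟩), one_mul]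
    obtain ⟨n, hn⟩ := IsPGroup.iff_card.mp hQp
    obtain ⟨j, hj⟩ : ∃ j : ℕ, (φ ⟨k, hkP k hk⟩ ^ P₁.index) ^ j = φ ⟨k, hkP k hk⟩ :=
      exists_pow_eq_self_of_coprime (Nat.Coprime.coprime_dvd_right
        (orderOf_dvd_natCard (G := ↥P₁ ⧸ T₀) _) (hn ▸ hcop))
    refine ⟨k ^ j, by rw [map_pow, hk, one_pow], ?_⟩
    rw [hxk, map_pow, htrk k hk, hj]
  -- the displacement of `y`
  set M := tr.ker with hM
  let z : L → Ω := fun γ => y⁻¹ * autFun (γ : MulAut ↥(R ⊔ centralizerIn S R)) y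
  have hzmem : ∀ γ : L, z γ ∈ R ⊓ centralizerIn S R := fun γ => ⟨(hLm γ).2.2 y hy,
    Subgroup.mul_mem _ (Subgroup.inv_mem _ hy) (map_mem_centralizer (hiso γ).1 le_sup_left (himR γ) (hCD hy) hy.2)⟩
  have hzmul : ∀ γ δ : L, z (γ * δ) = z γ * autFun (γ : MulAut ↥(R ⊔ centralizerIn S R)) (z δ) := fun γ δ => by
    show y⁻¹ * autFun ((γ * δ : L) : MulAut ↥(R ⊔ centralizerIn S R)) y = _
    rw [Subgroup.coe_mul, autFun_mul _ _ (hCD hy), Function.comp_apply,
      show autFun (δ : MulAut ↥(R ⊔ centralizerIn S R)) y = y * z δ by simp [z],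
      (hiso γ).1.map_mul (hCD hy) (hRD (hzmem δ).1)]
    simp [z, mul_assoc]
  have hzT : ∀ t, z (τ t) = 1 := fun t => by
    show y⁻¹ * autFun ((τ t : L) : MulAut ↥(R ⊔ centralizerIn S R)) y = 1
    rw [autFun_of_mem _ (hCD hy), hτe, hyT t t.2, inv_mul_cancel]
  have hzP : ∀ m ∈ M, m ∈ P₁ → z m = 1 := by
    intro m hm hmP
    obtain ⟨t, k, hk, rfl⟩ := hP₁dec m hmP
    rw [MonoidHom.mem_ker, map_mul, htrτ, one_mul, htrk k hk] at hm
    obtain ⟨n, hn⟩ := hQp (φ ⟨k, hkP k hk⟩)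
    have h1 : φ ⟨k, hkP k hk⟩ = 1 := orderOf_eq_one_iff.mp (Nat.eq_one_of_dvd_coprimes
      hcop (orderOf_dvd_of_pow_eq_one hm) (orderOf_dvd_of_pow_eq_one hn))
    obtain ⟨u, hu⟩ := (QuotientGroup.eq_one_iff _).mp h1
    rw [show τ t * k = τ (t * u) by rw [map_mul]; congr 1; exact hu.symm]
    exact hzT _
  have hrep : ∀ q : L ⧸ P₁, ∃ m ∈ M, (m : L ⧸ P₁) = q := by
    intro q
    obtain ⟨γ, rfl⟩ := QuotientGroup.mk_surjective q
    obtain ⟨k, hk, hke⟩ := hdecL γ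
    refine ⟨γ * k⁻¹, ?_, QuotientGroup.eq.mpr ?_⟩
    · rw [MonoidHom.mem_ker, map_mul, map_inv, hke, mul_inv_cancel]
    · rw [show (γ * k⁻¹)⁻¹ * γ = k by group]; exact hkP k hk
  choose rep hrepM hrepe using hrep
  haveI hZc : IsMulCommutative ↥(R ⊓ centralizerIn S R) := ⟨⟨fun a b => Subtype.ext
    (Subgroup.mem_centralizer_iff.mp b.2.2.2 a a.2.1)⟩⟩
  letI : CommGroup ↥(R ⊓ centralizerIn S R) :=
    { (inferInstance : Group ↥(R ⊓ centralizerIn S R)) with
      mul_comm := fun a b => Subtype.ext (Subgroup.mem_centralizer_iff.mp b.2.2.2 a a.2.1) }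
  let zZ : L → ↥(R ⊓ centralizerIn S R) := fun γ => ⟨z γ, hzmem γ⟩
  have hZmap : ∀ (δ : L) (x : ↥(R ⊓ centralizerIn S R)),
      autFun (δ : MulAut ↥(R ⊔ centralizerIn S R)) (x : Ω) ∈ R ⊓ centralizerIn S R := fun δ x =>
    ⟨(himR δ).subset ⟨x, x.2.1, rfl⟩,
      map_mem_centralizer (hiso δ).1 le_sup_left (himR δ) (hRD x.2.1) x.2.2.2⟩
  let act : L → (↥(R ⊓ centralizerIn S R) →* ↥(R ⊓ centralizerIn S R)) := fun δ =>
    MonoidHom.mk' (fun x => ⟨_, hZmap δ x⟩) fun x x' => Subtype.ext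
      ((hiso δ).1.map_mul (hRD x.2.1) (hRD x'.2.1))
  haveI : Finite ↥(R ⊓ centralizerIn S R) := finite_of_le (inf_le_left.trans hRS)
  let b : ↥(R ⊓ centralizerIn S R) := ∏ q, zZ (rep q)
  have hb : ∀ δ ∈ M, b = zZ δ ^ P₁.index * act δ b := by
    intro δ hδ
    have h1 : ∀ q, zZ (rep (δ • q)) = zZ δ * act δ (zZ (rep q)) := by
      intro q
      have hcl : (δ * rep q)⁻¹ * rep (δ • q) ∈ P₁ := by
        rw [← QuotientGroup.eq, hrepe]
        conv_rhs => rw [← hrepe q]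
        rfl
      have h2 : z (rep (δ • q)) = z (δ * rep q) := by
        conv_lhs => rw [show rep (δ • q) = (δ * rep q) * ((δ * rep q)⁻¹ * rep (δ • q)) by group]
        rw [hzmul, hzP _ (M.mul_mem (M.inv_mem (M.mul_mem hδ (hrepM q))) (hrepM _)) hcl,
          (hiso _).1.map_one, mul_one]
      exact Subtype.ext (h2.trans (hzmul δ (rep q)))
    calc b = ∏ q, zZ (rep (δ • q)) := (Fintype.prod_equiv (MulAction.toPerm δ) _ _ fun q => rfl).symm
      _ = ∏ q, zZ δ * act δ (zZ (rep q)) := Finset.prod_congr rfl fun q _ => h1 q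
      _ = _ := by rw [Finset.prod_mul_distrib, Finset.prod_const, map_prod, Finset.card_univ,
          ← Nat.card_eq_fintype_card, ← Subgroup.index_eq_card]
  obtain ⟨n, hn⟩ := IsPGroup.iff_card.mp (h.pgroup.to_le (inf_le_left.trans hRS) :
    IsPGroup p ↥(R ⊓ centralizerIn S R))
  obtain ⟨e, -, he⟩ := Nat.exists_mul_mod_eq_one_of_coprime (hcop (n := max n 1))
    (Nat.one_lt_pow (by omega) (Fact.out : p.Prime).one_lt)
  have hpow : ∀ x : ↥(R ⊓ centralizerIn S R), (x ^ P₁.index) ^ e = x := fun x => by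
    rw [← pow_mul]
    conv_lhs => rw [← Nat.mod_add_div (P₁.index * e) (p ^ max n 1), he, pow_add, pow_one, pow_mul]
    have hdvd : orderOf x ∣ p ^ max n 1 :=
      (orderOf_dvd_natCard x).trans (hn ▸ pow_dvd_pow p (le_max_left n 1))
    rw [orderOf_dvd_iff_pow_eq_one.mp hdvd, one_pow, mul_one]
  set a := b ^ e with ha
  have hfixa : ∀ δ ∈ M, autFun (δ : MulAut ↥(R ⊔ centralizerIn S R)) (y * (a : Ω)) = y * a := by
    intro δ hδ
    have h1 : a = zZ δ * act δ a := by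
      rw [ha]
      conv_lhs => rw [hb δ hδ, mul_pow, hpow, ← map_pow]
    rw [(hiso δ).1.map_mul (hCD hy) (hRD a.2.1), show autFun (δ : MulAut ↥(R ⊔ centralizerIn S R)) y = y * z δ by simp [z]]
    conv_rhs => rw [h1]
    rw [mul_assoc]
    rfl
  refine ⟨a, a.2, fun t ht => ?_, fun α hα => ?_⟩
  · have hτM : τ ⟨t, ht⟩ ∈ M := htrτ _
    have h1 := hfixa _ hτM
    rw [(hiso _).1.map_mul (hCD hy) (hRD a.2.1), autFun_of_mem _ (hCD hy), hτe, hyT t ht,
      autFun_of_mem _ (hRD a.2.1), hτe] at h1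
    exact mul_left_cancel h1
  · obtain ⟨γ, hγ⟩ := hsurj ⟨α, hα⟩
    obtain ⟨k, hk, hke⟩ := hdecL γ
    have hm : γ * k⁻¹ ∈ M := by rw [MonoidHom.mem_ker, map_mul, map_inv, hke, mul_inv_cancel]
    refine ⟨autFun ((γ * k⁻¹ : L) : MulAut ↥(R ⊔ centralizerIn S R)), (hiso _).1, fun x hx => ?_, hfixa _ hm⟩
    have hr : res (γ * k⁻¹) = ⟨α, hα⟩ := by rw [map_mul, map_inv, hk, inv_one, mul_one, hγ]
    have h2 := hresF (γ * k⁻¹) hx
    rw [show resF (γ * k⁻¹) = res (γ * k⁻¹) from rfl, hr] at h2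
    exact h2

end Cfsg.Agent.Fus93.FixCentre
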