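import Cfsg.Agent.Fus93.FixCentre.Measure
import Cfsg.Agent.JFix.OrbitProd
import Cfsg.Agent.JFix.Fixed

/-!
The local step: maps normalizing the quadratically acting elements control the fixed points
-/

set_option autoImplicit false
set_option linter.style.haveILetI false

namespace Cfsg.Agent.Fus93.FixCentre

open Cfsg Cfsg.Agent.Fusion Cfsg.Agent.Fusion.NormalLift
open Cfsg.FusionSystem (normalizerIn centralizerIn)
open scoped commutatorElement

variable {Ω : Type*} [Group Ω] {S T : Subgroup Ω} {F : FusionSystem S} {E : FusionSystem T} {p : ℕ}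
  [Finite S] [Fact p.Prime]

theorem centric_of_normalized (h : NData F E p) {U : Subgroup Ω} (hUn : E.IsFullyNormalized U)
    (hc : centralizerIn T U ≤ U) : E.IsCentric U := by
  haveI := h.finiteT
  refine ⟨hUn.1, fun Q hQ => ?_⟩
  obtain ⟨θ, hθ, hθQ, hθN⟩ := exists_normalizer_map h.tp
    (fullyAutomized_of_fullyNormalized h.tp h.eSat hUn)
    (receptive_of_fullyNormalized h.tp h.eSat hUn) (isConj_symm hQ)
  intro x hx
  have hxN : x ∈ normalizerIn T Q := centralizerIn_le_normalizerIn _ _ hx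
  have hθx : θ x ∈ U :=
    hc (map_mem_centralizer hθ (le_normalizerIn hθQ.dom_le) hθQ.2 hxN hx.2)
  obtain ⟨z, hz, hzx⟩ := hθQ.exists_preimage hθx
  exact hθ.injOn (le_normalizerIn hθQ.dom_le hz) hxN hzx ▸ hz

theorem fix_of_fixes {U : Subgroup Ω} {y a : Ω} (haU : a ∈ U) {f : Ω → Ω}
    (hf : ExtendsFix F (Subgroup.zpowers (y * a)) U f) (hfa : f a = a) :
    ExtendsFix F (Subgroup.zpowers y) U f := by
  obtain ⟨g, hg, hge, hgy⟩ := hf
  have hya : y * a ∈ U ⊔ Subgroup.zpowers (y * a) := Subgroup.mem_sup_right (Subgroup.mem_zpowers _)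
  have hyM : y ∈ U ⊔ Subgroup.zpowers (y * a) := by
    have h1 := mul_mem hya (inv_mem (Subgroup.mem_sup_left haU : a ∈ U ⊔ Subgroup.zpowers (y * a)))
    rwa [mul_inv_cancel_right] at h1
  have hgy' : g y = y := by
    have h1 := hgy _ (Subgroup.mem_zpowers (y * a))
    rw [hg.map_mul hyM (Subgroup.mem_sup_left haU), hge haU, hfa] at h1
    exact mul_right_cancel h1
  refine ⟨g, hg.mono (sup_le le_sup_left (Subgroup.zpowers_le.mpr hyM)), hge, fun x hx => ?_⟩
  obtain ⟨k, rfl⟩ := Subgroup.mem_zpowers_iff.mp hx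
  obtain ⟨φ, -, hφ⟩ := id hg
  rw [← hφ ⟨y ^ k, Subgroup.zpow_mem _ hyM k⟩,
    show (⟨y ^ k, Subgroup.zpow_mem _ hyM k⟩ : ↥(U ⊔ Subgroup.zpowers (y * a))) = ⟨y, hyM⟩ ^ k from rfl,
    map_zpow, hφ, hgy']

/-- It is enough to treat automorphisms of order prime to `p`. -/
theorem autGroup_fix (h : NData F E p) {U : Subgroup Ω} (hUn : E.IsFullyNormalized U) {y : Ω}
    (hy : y ∈ centralizerIn S T)
    (hco : ∀ e ∈ E.autGroup U, Nat.Coprime (orderOf e) p →
      ExtendsFix F (Subgroup.zpowers y) U (autFun e)) :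
    ∀ e ∈ E.autGroup U, ExtendsFix F (Subgroup.zpowers y) U (autFun e) := by
  haveI := h.finiteT
  have hUT := hUn.1
  haveI := finite_of_le hUT
  haveI := finite_mulAut U
  have hWS : U ⊔ Subgroup.zpowers y ≤ S := sup_le (hUT.trans h.tS) (Subgroup.zpowers_le.mpr hy.1)
  let K : Subgroup (E.autGroup U) :=
    { carrier := {a | ExtendsFix F (Subgroup.zpowers y) U (autFun (a : MulAut U))}
      one_mem' := ⟨id, isMap_id hWS, fun x hx => (autFun_one hx).symm, fun _ _ => rfl⟩
      mul_mem' := fun {a b} ha hb => (hb.comp ha fun x hx => autFun_of_mem (b : MulAut U) hx ▸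
        ((b : MulAut U) _).2).congr (autFun_mul _ _).symm
      inv_mem' := fun {a} ha => ha.inv
        ⟨((mem_autGroup hUT).mp a.2).1.of_isSubsystemOf h.sub, autFun_image _⟩
        fun x hx => by
          rw [autFun_of_mem (a : MulAut U) hx, autFun_coe]
          exact congrArg Subtype.val ((a : MulAut U).symm_apply_apply _) }
  obtain ⟨Y, hY⟩ := (fullyAutomized_of_fullyNormalized h.tp h.eSat hUn).2
  have hK : K = ⊤ := by
    refine eq_top_of_sylow_coprime Y K (fun a ha => ?_) fun a ha =>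
      hco a a.2 (by rwa [Subgroup.orderOf_coe])
    rw [hY, Subgroup.mem_subgroupOf, mem_autInducedBy] at ha
    obtain ⟨t, ht, hte⟩ := ha
    refine ⟨fun x => t * x * t⁻¹, isMap_conj hWS (h.tS ht), fun x hx => ?_, fun x hx => ?_⟩
    · rw [autFun_of_mem _ hx, hte]
    · show t * x * t⁻¹ = x
      have h1 : Subgroup.zpowers y ≤ centralizerIn S T := Subgroup.zpowers_le.mpr hy
      rw [Subgroup.mem_centralizer_iff.mp (h1 hx).2 t ht]
      group
  exact fun e he => (hK.ge (Subgroup.mem_top (⟨e, he⟩ : E.autGroup U)) : _)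

/-- `α` acts quadratically on the centre of `U`. -/
def IsQuad {U : Subgroup Ω} (α : MulAut U) : Prop :=
  ∀ v ∈ Subgroup.center U, α (α v * v⁻¹) = α v * v⁻¹

theorem center_map {U : Subgroup Ω} (α : MulAut U) {v : U} (hv : v ∈ Subgroup.center U) :
    α v ∈ Subgroup.center U :=
  Subgroup.mem_center_iff.mpr fun g => by
    obtain ⟨g, rfl⟩ := α.surjective g
    rw [← map_mul, ← map_mul, Subgroup.mem_center_iff.mp hv g]

theorem IsQuad.conj {U : Subgroup Ω} {b : MulAut U} (hb : IsQuad b) (g : MulAut U) :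
    IsQuad (g * b * g⁻¹) := by
  intro v hv
  obtain ⟨w, rfl⟩ := g.surjective v
  have hw : w ∈ Subgroup.center U := by simpa using center_map g⁻¹ hv
  have h1 : ∀ z, (g * b * g⁻¹) (g z) = g (b z) := fun z => by
    show g (b (g.symm (g z))) = _
    rw [g.symm_apply_apply]
  rw [h1, ← map_inv, ← map_mul, h1, hb w hw]

/-- The subgroup generated by the induced automorphisms acting quadratically on `Z(U)`. -/
def quadAut (T U : Subgroup Ω) : Subgroup (MulAut U) :=
  Subgroup.closure {α | α ∈ autInducedBy T U ∧ IsQuad α}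

/-- Its preimage in `N_T(U)`. -/
def quadSub (T U : Subgroup Ω) : Subgroup Ω :=
  ((quadAut T U).comap (conjAutHom T U)).map (normalizerIn T U).subtype

theorem mem_quadSub {U : Subgroup Ω} {t : Ω} (ht : t ∈ normalizerIn T U)
    (hq : ∀ v : Ω, v ∈ U ⊓ Subgroup.centralizer (U : Set Ω) → t * ⁅t, v⁆ = ⁅t, v⁆ * t) :
    t ∈ quadSub T U := by
  refine ⟨⟨t, ht⟩, Subgroup.mem_comap.mpr (Subgroup.subset_closure
    (show conjAutHom T U ⟨t, ht⟩ ∈ {α | α ∈ autInducedBy T U ∧ IsQuad α} from
      ⟨?_, fun v hv => ?_⟩)), rfl⟩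
  · rw [← range_conjAutHom]; exact ⟨_, rfl⟩
  · refine Subtype.ext ?_
    have h1 := hq v ⟨v.2, Subgroup.mem_centralizer_iff.mpr fun u hu =>
      congrArg Subtype.val (Subgroup.mem_center_iff.mp hv ⟨u, hu⟩)⟩
    rw [commutatorElement_def] at h1
    simp only [conjAutHom_apply, Subgroup.coe_mul, Subgroup.coe_inv]
    rw [h1, mul_inv_cancel_right]

theorem quadSub_le {U : Subgroup Ω} : quadSub T U ≤ normalizerIn T U := Subgroup.map_subtype_le _

theorem le_quadSub {U : Subgroup Ω} (hUT : U ≤ T) : U ≤ quadSub T U := fun u hu =>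
  mem_quadSub ⟨hUT hu, U.le_normalizer hu⟩ fun v hv => by
    rw [commutatorElement_def, Subgroup.mem_centralizer_iff.mp hv.2 u hu]
    group

set_option maxHeartbeats 800000 in
/-- If the maps on `quadSub T U` extend fixing `y`, so do the automorphisms of `U`. -/
theorem fix_of_quad (h : NData F E p) (hp : p ≠ 2) {U : Subgroup Ω} (hUn : E.IsFullyNormalized U)
    (hUc : E.IsCentric U) {y : Ω} (hy : y ∈ centralizerIn S T)
    (hbig : ∀ f, IsMap E (quadSub T U) f → ExtendsFix F (Subgroup.zpowers y) (quadSub T U) f) :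
    ∀ e ∈ E.autGroup U, ExtendsFix F (Subgroup.zpowers y) U (autFun e) := by
  classical
  haveI := h.finiteT
  have hUT := hUn.1
  haveI := finite_of_le hUT
  haveI := finite_mulAut U
  obtain ⟨a, ⟨haU, haC⟩, hat, hae⟩ := exists_point_centric h hUc hUn hy
  have hyU : y ∈ centralizerIn S U := ⟨hy.1, Subgroup.centralizer_le hUT hy.2⟩
  have haZ : (⟨a, haU⟩ : U) ∈ Subgroup.center U := Subgroup.mem_center_iff.mpr fun g =>
    Subtype.ext (Subgroup.mem_centralizer_iff.mp haC.2 g g.2)
  set A := E.autGroup U with hA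
  letI : CommGroup ↥(Subgroup.center U) :=
    { (inferInstance : Group ↥(Subgroup.center U)) with
      mul_comm := fun x y => Subtype.ext (Subgroup.mem_center_iff.mp y.2 x) }
  letI : MulDistribMulAction A ↥(Subgroup.center U) :=
    { smul := fun g v => ⟨(g : MulAut U) v, center_map _ v.2⟩
      one_smul := fun v => Subtype.ext rfl
      mul_smul := fun g g' v => Subtype.ext rfl
      smul_mul := fun g v w => Subtype.ext (map_mul (g : MulAut U) _ _)
      smul_one := fun g => Subtype.ext (map_one (g : MulAut U)) }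
  set z : ↥(Subgroup.center U) := ⟨⟨a, haU⟩, haZ⟩ with hz
  have hfix_iff : ∀ g : A, g • z = z ↔ autFun (g : MulAut U) a = a := fun g => by
    rw [autFun_of_mem _ haU]
    exact ⟨fun he => congrArg (fun v : ↥(Subgroup.center U) => ((v : U) : Ω)) he,
      fun he => Subtype.ext (Subtype.ext he)⟩
  obtain ⟨P, hP⟩ := (fullyAutomized_of_fullyNormalized h.tp h.eSat hUn).2
  have hPz : ∀ g ∈ (P : Subgroup A), g • z = z := fun g hg => by
    rw [hP, Subgroup.mem_subgroupOf, mem_autInducedBy] at hg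
    obtain ⟨t, ht, hte⟩ := hg
    rw [hfix_iff, autFun_of_mem _ haU, hte]
    exact hat t ⟨ht, mem_normalizer_of_induces hte⟩
  set W := (quadAut T U).subgroupOf A with hW
  have hWA : quadAut T U ≤ A := (Subgroup.closure_le _).mpr fun α hα =>
    autInducedBy_le_autGroup hUT hα.1
  have hWP : W ≤ (P : Subgroup A) := fun g hg => by
    rw [hP, Subgroup.mem_subgroupOf]
    exact ((Subgroup.closure_le _).mpr fun α hα => hα.1 : quadAut T U ≤ _) hg
  set M := MulAction.stabilizer A z with hM
  -- the normalizer of `W` fixes `a`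
  set H := Subgroup.normalizer (W : Set A) with hH
  have hPH : (P : Subgroup A) ≤ H := fun g hg => by
    refine Subgroup.mem_normalizer_iff_map_conj_eq.mpr (Subgroup.eq_of_le_of_card_ge ?_
      (Subgroup.card_map_of_injective (MulAut.conj g).injective).ge)
    rintro _ ⟨w, hw, rfl⟩
    show (g : MulAut U) * (w : MulAut U) * (g : MulAut U)⁻¹ ∈ quadAut T U
    have hgI : (g : MulAut U) ∈ autInducedBy T U := by
      rw [hP, Subgroup.mem_subgroupOf] at hg; exact hg
    rw [hW, SetLike.mem_coe, Subgroup.mem_subgroupOf] at hw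
    obtain ⟨ω, hω⟩ : ∃ ω, (w : MulAut U) = ω := ⟨_, rfl⟩
    rw [hω] at hw ⊢
    clear hω
    induction hw using Subgroup.closure_induction with
    | mem α hα =>
      exact Subgroup.subset_closure (show _ ∈ {α | α ∈ autInducedBy T U ∧ IsQuad α} from
        ⟨mul_mem (mul_mem hgI hα.1) (inv_mem hgI), hα.2.conj _⟩)
    | one => simp
    | mul u v _ _ hu hv =>
      rw [show (g : MulAut U) * (u * v) * (g : MulAut U)⁻¹ =
        ((g : MulAut U) * u * (g : MulAut U)⁻¹) * ((g : MulAut U) * v * (g : MulAut U)⁻¹) by group]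
      exact mul_mem hu hv
    | inv u _ hu =>
      rw [show (g : MulAut U) * u⁻¹ * (g : MulAut U)⁻¹ =
        ((g : MulAut U) * u * (g : MulAut U)⁻¹)⁻¹ by group]
      exact inv_mem hu
  have hHM : H ≤ M := by
    let Y : Sylow p H := P.subtype hPH
    have hY : M.subgroupOf H = ⊤ := by
      refine eq_top_of_sylow_coprime Y _ ?_ fun g hg => ?_
      · rw [Sylow.coe_subtype]; exact Subgroup.comap_mono fun x hx => hPz x hx
      refine Subgroup.mem_subgroupOf.mpr (show (g : A) • z = z from ?_)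
      have hgo : Nat.Coprime (orderOf ((g : A) : MulAut U)) p := by
        rwa [Subgroup.orderOf_coe, Subgroup.orderOf_coe]
      set e : MulAut U := ((g : A) : MulAut U) with he
      have heA : e ∈ A := (g : A).2
      have hext : IsExtendable T U (autFun e) (quadSub T U) := by
        refine ⟨quadSub_le.trans (normalizerIn_le _ _), fun t ht => ⟨(quadSub_le ht).2, ?_⟩⟩
        obtain ⟨⟨t, htN⟩, htq, rfl⟩ := ht
        have h1 : (g : A) * ⟨conjAutHom T U ⟨t, htN⟩, hWA htq⟩ * (g : A)⁻¹ ∈ W :=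
          (Subgroup.mem_normalizer_iff.mp g.2 _).mp (Subgroup.mem_subgroupOf.mpr htq)
        have h2 : e * conjAutHom T U ⟨t, htN⟩ * e⁻¹ ∈ autInducedBy T U :=
          ((Subgroup.closure_le _).mpr fun α hα => hα.1 : quadAut T U ≤ _)
            (Subgroup.mem_subgroupOf.mp h1)
        obtain ⟨u, hu, hue⟩ := mem_autInducedBy.mp h2
        refine ⟨u, hu, fun x hx => ?_⟩
        have h3 := hue (e ⟨x, hx⟩)
        rw [MulAut.mul_apply, MulAut.mul_apply,
          show e⁻¹ (e ⟨x, hx⟩) = ⟨x, hx⟩ from e.symm_apply_apply _,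
          ← autFun_coe e, conjAutHom_apply, ← autFun_of_mem e hx] at h3
        exact h3
      obtain ⟨f, hf, hfe⟩ := receptive_extend (receptive_of_fullyNormalized h.tp h.eSat hUn)
        ((mem_autGroup hUT).mp heA) hext
      rw [sup_eq_right.mpr (le_quadSub hUT)] at hf
      have hfix : ExtendsFix F (Subgroup.zpowers y) U (autFun e) :=
        (extendsFix_mono (hbig f hf) (le_quadSub hUT) le_rfl).congr hfe
      exact (hfix_iff _).mpr
        (fixes_of_descend h hUT le_rfl hUc hyU haU heA hgo (autFun_image e) (hae e heA) hfix)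
    exact Subgroup.subgroupOf_eq_top.mp hY
  -- every coset is moved by a quadratic element
  have hPM : (P : Subgroup A) ≤ M := fun g hg => hPz g hg
  have hmove : ∀ x : A ⧸ M, x ≠ ((1 : A) : A ⧸ M) →
      ∃ b ∈ (P : Subgroup A), b • x ≠ x ∧
        ∀ v : ↥(Subgroup.center U), b • (b • v / v) = b • v / v := by
    intro x hx
    obtain ⟨g, rfl⟩ := QuotientGroup.mk_surjective x
    by_contra hall
    push Not at hall
    refine hx (QuotientGroup.eq.mpr ?_)
    have hgen : ∀ b : A, (b : MulAut U) ∈ autInducedBy T U → IsQuad (b : MulAut U) →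
        g⁻¹ * b * g ∈ M := by
      intro b hbI hbQ
      by_contra hne
      obtain ⟨v, hv⟩ := hall b (by rw [hP, Subgroup.mem_subgroupOf]; exact hbI) fun he => hne (by
        rw [MulAction.Quotient.smul_mk, smul_eq_mul, QuotientGroup.eq] at he
        simpa [mul_assoc] using M.inv_mem he)
      refine hv (Subtype.ext ?_)
      simp only [div_eq_mul_inv]
      exact hbQ v v.2
    have hWg : W.map (MulAut.conj g⁻¹).toMonoidHom ≤ M := by
      rintro _ ⟨w, hw, rfl⟩
      rw [hW, SetLike.mem_coe, Subgroup.mem_subgroupOf] at hw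
      show g⁻¹ * w * g⁻¹⁻¹ ∈ M
      rw [inv_inv]
      have : ∀ (α : MulAut U) (hα : α ∈ quadAut T U), g⁻¹ * ⟨α, hWA hα⟩ * g ∈ M := by
        intro α hα
        induction hα using Subgroup.closure_induction with
        | mem β hβ => exact hgen (⟨β, hWA (Subgroup.subset_closure hβ)⟩ : A) hβ.1 hβ.2
        | one =>
          rw [show (⟨1, _⟩ : A) = 1 from rfl, mul_one, inv_mul_cancel]; exact one_mem _
        | mul u v hu hv ihu ihv =>
          rw [show (⟨u * v, _⟩ : A) = ⟨u, hWA hu⟩ * ⟨v, hWA hv⟩ from rfl,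
            show g⁻¹ * (⟨u, hWA hu⟩ * ⟨v, hWA hv⟩) * g =
              (g⁻¹ * ⟨u, hWA hu⟩ * g) * (g⁻¹ * ⟨v, hWA hv⟩ * g) by group]
          exact mul_mem ihu ihv
        | inv u hu ihu =>
          rw [show (⟨u⁻¹, _⟩ : A) = (⟨u, hWA hu⟩ : A)⁻¹ from rfl,
            show g⁻¹ * (⟨u, hWA hu⟩ : A)⁻¹ * g = (g⁻¹ * ⟨u, hWA hu⟩ * g)⁻¹ by group]
          exact inv_mem ihu
      exact this _ hw
    obtain ⟨m, hm, hmP⟩ := JFix.exists_conj_le hPM P.isPGroup' hWg
      ((P.isPGroup'.to_le hWP).map _) fun R _ hR => JFix.card_le_sylow P hR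
    have hn : m * g⁻¹ ∈ H := by
      refine Subgroup.mem_normalizer_iff_map_conj_eq.mpr (Subgroup.eq_of_le_of_card_ge ?_
        (Subgroup.card_map_of_injective (MulAut.conj (m * g⁻¹)).injective).ge)
      rintro _ ⟨w, hw, rfl⟩
      show m * g⁻¹ * w * (m * g⁻¹)⁻¹ ∈ W
      rw [hW, SetLike.mem_coe, Subgroup.mem_subgroupOf] at hw
      have : ∀ (α : MulAut U) (hα : α ∈ quadAut T U),
          ((m * g⁻¹ : A) : MulAut U) * α * ((m * g⁻¹ : A) : MulAut U)⁻¹ ∈ quadAut T U := by
        intro α hα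
        induction hα using Subgroup.closure_induction with
        | mem β hβ =>
          refine Subgroup.subset_closure (show _ ∈ {α | α ∈ autInducedBy T U ∧ IsQuad α} from
            ⟨?_, hβ.2.conj _⟩)
          have h1 := hmP _ ⟨⟨β, hWA (Subgroup.subset_closure hβ)⟩,
            Subgroup.mem_subgroupOf.mpr (Subgroup.subset_closure hβ), rfl⟩
          rw [hP, Subgroup.mem_subgroupOf] at h1
          convert h1 using 1
          simp [mul_assoc]
        | one => simp
        | mul u v _ _ hu hv =>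
          rw [show ∀ n : MulAut U, n * (u * v) * n⁻¹ = (n * u * n⁻¹) * (n * v * n⁻¹) from
            fun n => by group]
          exact mul_mem hu hv
        | inv u _ hu =>
          rw [show ∀ n : MulAut U, n * u⁻¹ * n⁻¹ = (n * u * n⁻¹)⁻¹ from fun n => by group]
          exact inv_mem hu
      exact Subgroup.mem_subgroupOf.mpr (this _ hw)
    have h2 : g⁻¹ ∈ M := by
      have h3 := M.mul_mem (M.inv_mem hm) (hHM hn)
      rwa [inv_mul_cancel_left] at h3
    simpa using h2
  haveI : Finite ↥(Subgroup.center U) := inferInstance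
  have hall : ∀ g : A, g • z = z := JFix.smul_eq_of_quadratic hp
    ((h.tp.to_le hUT).to_subgroup _) M P hPM P.isPGroup' hmove z fun g hg => hg
  refine fun e he => fix_of_fixes haU (hae e he) ((hfix_iff ⟨e, he⟩).mp (hall _))

end Cfsg.Agent.Fus93.FixCentre
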