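import Cfsg.Agent.Fus93.FixCentre.Point

/-!
The fixed point for a fully normalized centric subgroup of the subsystem
-/

set_option autoImplicit false
set_option linter.style.haveILetI false

namespace Cfsg.Agent.Fus93.FixCentre

open Cfsg Cfsg.Agent.Fusion Cfsg.Agent.Fusion.NormalLift
open Cfsg.FusionSystem (normalizerIn centralizerIn)

variable {Ω : Type*} [Group Ω] {S T : Subgroup Ω} {F : FusionSystem S} {E : FusionSystem T} {p : ℕ}
  [Finite S] [Fact p.Prime]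

omit [Finite S] in
theorem centralizerIn_normalized {R : Subgroup Ω} :
    normalizerIn S R ≤ Subgroup.normalizer ((R ⊔ centralizerIn S R : Subgroup Ω) : Set Ω) := by
  intro s hs
  refine mem_normalizer_sup hs.2 ?_
  have key : ∀ u ∈ normalizerIn S R, ∀ c ∈ centralizerIn S R, u * c * u⁻¹ ∈ centralizerIn S R :=
    fun u hu c hc' => ⟨S.mul_mem (S.mul_mem hu.1 hc'.1) (S.inv_mem hu.1),
      Subgroup.mem_centralizer_iff.mpr fun z hz => by
        have h1 : u⁻¹ * z * u ∈ R := by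
          simpa using conj_mem_of_mem_normalizer (Subgroup.inv_mem _ hu.2) hz
        calc z * (u * c * u⁻¹) = u * (u⁻¹ * z * u * c) * u⁻¹ := by group
          _ = u * (c * (u⁻¹ * z * u)) * u⁻¹ := by rw [Subgroup.mem_centralizer_iff.mp hc'.2 _ h1]
          _ = u * c * u⁻¹ * z := by group⟩
  refine Subgroup.mem_normalizer_iff.mpr fun c => ⟨key s hs c, fun hc' => ?_⟩
  simpa [mul_assoc] using key s⁻¹ (Subgroup.inv_mem _ hs) _ hc'

/-- A transport to a position where `R` and `R C_S(R)` are fully normalized. -/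
theorem exists_transport_full (h : NData F E p) {U : Subgroup Ω} (hUc : E.IsCentric U)
    (hUn : E.IsFullyNormalized U) :
    ∃ R θ, F.IsFullyNormalized R ∧ F.IsFullyNormalized (R ⊔ centralizerIn S R) ∧ R ≤ T ∧
      centralizerIn T R ≤ R ∧ IsMap F (normalizerIn S U) θ ∧ IsIso F U R θ ∧
      (∀ t ∈ normalizerIn T U, θ t ∈ normalizerIn T R) ∧
      (∀ t' ∈ normalizerIn T R, ∃ t ∈ normalizerIn T U, θ t = t') := by
  obtain ⟨Q, θ₁, hQn, hQT, hQc, hθ₁, hθ₁U, hθ₁T, hθ₁s⟩ := exists_transport h hUc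
  set D₁ := Q ⊔ centralizerIn S Q with hD₁
  obtain ⟨D₂, hD₂, hD₂n⟩ := exists_fullyNormalized (F := F)
    (sup_le hQn.1 (centralizerIn_le _ _) : D₁ ≤ S)
  obtain ⟨θ₂, hθ₂, hθ₂D, -, -⟩ := h.exists_normT_map hD₂n hD₂
  have hND : normalizerIn S Q ≤ normalizerIn S D₁ := fun s hs =>
    ⟨hs.1, centralizerIn_normalized hs⟩
  have hθ₁N : ∀ s ∈ normalizerIn S U, θ₁ s ∈ normalizerIn S Q := fun s hs =>
    map_mem_normalizer hθ₁ (le_normalizerIn (hUc.1.trans h.tS)) hθ₁U.2 hs hs.2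
  have hQsub : Q ≤ normalizerIn S D₁ := (le_normalizerIn hQn.1).trans hND
  obtain ⟨R, hR⟩ := (hθ₂.mono hQsub).exists_image
  have hRn : F.IsFullyNormalized R :=
    ⟨hR.cod_le, fun W hW => (hQn.2 W (isConj_trans hR.isConj hW)).trans
      (card_le_of_injOn (normalizerIn_le _ _) (hθ₂.injOn.mono fun x hx => hND hx)
        fun s hs => map_mem_normalizer hθ₂ hQsub hR.2 (hND hs) hs.2)⟩
  have hC₁sub : centralizerIn S Q ≤ normalizerIn S D₁ :=
    fun c hc' => hND ⟨hc'.1, Subgroup.centralizer_le_normalizer _ hc'.2⟩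
  have hCmap : ∀ c ∈ centralizerIn S Q, θ₂ c ∈ centralizerIn S R := fun c hc' =>
    map_mem_centralizer hθ₂ hQsub hR.2 (hC₁sub hc') hc'.2
  have hCim : θ₂ '' (centralizerIn S Q : Set Ω) = (centralizerIn S R : Set Ω) :=
    Set.Subset.antisymm (fun y ⟨x, hx, hy⟩ => hy ▸ hCmap x hx)
      (surjOn_of_card_le (centralizerIn_le _ _) (hθ₂.injOn.mono hC₁sub) hCmap
        ((h.centralized hQn).2 R hR.isConj))
  have hD₂eq : D₂ = R ⊔ centralizerIn S R :=
    hθ₂D.cod_unique (IsIso.sup (hθ₂.mono (le_normalizerIn (sup_le hQn.1 (centralizerIn_le _ _))))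
      hR.2 hCim)
  have hRT : R ≤ T := fun z hz => by
    obtain ⟨x, hx, rfl⟩ := hR.exists_preimage hz
    exact Fusion92.closed_apply h.closed hθ₂ (hQsub hx) (hQT hx)
  have hT₂ : ∀ t ∈ normalizerIn T Q, θ₂ t ∈ normalizerIn T R := fun t ht =>
    ⟨Fusion92.closed_apply h.closed hθ₂ (hND ⟨h.tS ht.1, ht.2⟩) ht.1,
      (map_mem_normalizer hθ₂ hQsub hR.2 (hND ⟨h.tS ht.1, ht.2⟩) ht.2).2⟩
  refine ⟨R, θ₂ ∘ θ₁, hRn, hD₂eq ▸ hD₂n, hRT, h.centT_conj hQn hQc (isConj_symm hR.isConj),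
    hθ₁.comp hθ₂ fun s hs => hND (hθ₁N s hs), ⟨?_, ?_⟩, fun t ht => hT₂ _ (hθ₁T t ht), ?_⟩
  · exact (hθ₁U.1).comp hθ₂ fun s hs => hQsub (hθ₁U.mem hs)
  · rw [Set.image_comp, hθ₁U.2, hR.2]
  · intro t' ht'
    haveI := h.finiteT
    haveI := finite_of_le (normalizerIn_le T Q)
    obtain ⟨q, hq, rfl⟩ := surjOn_of_card_le ((normalizerIn_le T R).trans h.tS)
      (hθ₂.injOn.mono fun x (hx : x ∈ normalizerIn T Q) => hND ⟨h.tS hx.1, hx.2⟩) hT₂
      (h.card_normT_le hQn (isConj_symm hR.isConj)) t' ht'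
    obtain ⟨t, ht, rfl⟩ := hθ₁s hUn q hq
    exact ⟨t, ht, rfl⟩

/-- A fixed point in `y Z(U)`. -/
theorem exists_point_centric (h : NData F E p) {U : Subgroup Ω} (hUc : E.IsCentric U)
    (hUn : E.IsFullyNormalized U) {y : Ω} (hy : y ∈ centralizerIn S T) :
    ∃ a ∈ U ⊓ centralizerIn S U, (∀ t ∈ normalizerIn T U, t * a * t⁻¹ = a) ∧
      ∀ e ∈ E.autGroup U, ExtendsFix F (Subgroup.zpowers (y * a)) U (autFun e) := by
  obtain ⟨R, θ, hRn, hDn, hRT, hRc, hθ, hθU, hθT, hθs⟩ := exists_transport_full h hUc hUn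
  have hUT := hUc.1
  have hUS := hUT.trans h.tS
  have hUN : U ≤ normalizerIn S U := le_normalizerIn hUS
  have hCN : centralizerIn S U ≤ normalizerIn S U := centralizerIn_le_normalizerIn _ _
  have hTN : normalizerIn T U ≤ normalizerIn S U := fun t ht => ⟨h.tS ht.1, ht.2⟩
  have hyU : y ∈ centralizerIn S U := ⟨hy.1, Subgroup.centralizer_le hUT hy.2⟩
  have hyC : θ y ∈ centralizerIn S R := map_mem_centralizer hθ hUN hθU.2 (hCN hyU) hyU.2
  obtain ⟨a', ha', ha'T, ha'e⟩ := exists_point h hRn hRT hRc hDn hyC fun t' ht' => by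
    obtain ⟨t, ht, rfl⟩ := hθs t' ht'
    rw [← hθ.map_conj (hTN ht) (hCN hyU)]
    congr 1
    rw [Subgroup.mem_centralizer_iff.mp hy.2 t ht.1]
    group
  obtain ⟨a, haU, rfl⟩ := hθU.exists_preimage ha'.1
  have haC : a ∈ centralizerIn S U := ⟨hUS haU, Subgroup.mem_centralizer_iff.mpr fun x hx => by
    refine hθ.injOn ((normalizerIn S U).mul_mem (hUN hx) (hUN haU))
      ((normalizerIn S U).mul_mem (hUN haU) (hUN hx)) ?_
    rw [hθ.map_mul (hUN hx) (hUN haU), hθ.map_mul (hUN haU) (hUN hx)]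
    exact Subgroup.mem_centralizer_iff.mp ha'.2.2 _ (hθU.mem hx)⟩
  refine ⟨a, ⟨haU, haC⟩, fun t ht => ?_, fun e he => ?_⟩
  · refine hθ.injOn ((normalizerIn S U).mul_mem ((normalizerIn S U).mul_mem (hTN ht) (hUN haU))
      ((normalizerIn S U).inv_mem (hTN ht))) (hUN haU) ?_
    rw [hθ.map_conj (hTN ht) (hUN haU)]
    exact ha'T _ (hθT t ht)
  obtain ⟨γ, hγ, hγe, hγy⟩ := ha'e _ (congr_mem h hUT hθU he)
  have hle : U ⊔ Subgroup.zpowers (y * a) ≤ normalizerIn S U :=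
    sup_le hUN ((Subgroup.zpowers_le).mpr (mul_mem (hCN hyU) (hUN haU)))
  obtain ⟨M, hM⟩ := (hθ.mono hle).exists_image
  obtain ⟨θi, hθi, hθl, -⟩ := hM.exists_inv
  have hθya : θ (y * a) = θ y * θ a := hθ.map_mul (hCN hyU) (hUN haU)
  have hθD : ∀ z ∈ U ⊔ Subgroup.zpowers (y * a), θ z ∈ R ⊔ centralizerIn S R := by
    refine isMap_mem_sup (hθ.mono hle) le_sup_left le_sup_right
      (fun z hz => Subgroup.mem_sup_left (hθU.mem hz)) fun z hz => Subgroup.mem_sup_right ?_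
    have hyaC : y * a ∈ centralizerIn S U := mul_mem hyU haC
    exact map_mem_centralizer hθ hUN hθU.2 (hCN ((Subgroup.zpowers_le.mpr hyaC) hz))
      ((Subgroup.zpowers_le.mpr hyaC) hz).2
  have hcomp : IsMap F (U ⊔ Subgroup.zpowers (y * a)) (γ ∘ θ) := (hθ.mono hle).comp hγ hθD
  have hfixpow : ∀ z ∈ Subgroup.zpowers (y * a), γ (θ z) = θ z := by
    intro z hz
    obtain ⟨k, rfl⟩ := Subgroup.mem_zpowers_iff.mp hz
    have hm : y * a ∈ U ⊔ Subgroup.zpowers (y * a) := Subgroup.mem_sup_right (Subgroup.mem_zpowers _)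
    obtain ⟨φ, -, hφ⟩ := id hcomp
    obtain ⟨ψ, -, hψ⟩ := id (hθ.mono hle)
    show (γ ∘ θ) _ = _
    rw [← hφ ⟨_, Subgroup.zpow_mem _ hm k⟩, ← hψ ⟨_, Subgroup.zpow_mem _ hm k⟩,
      show (⟨(y * a) ^ k, Subgroup.zpow_mem _ hm k⟩ : ↥(U ⊔ Subgroup.zpowers (y * a))) =
        ⟨y * a, hm⟩ ^ k from rfl, map_zpow, map_zpow, hφ, hψ]
    show γ (θ (y * a)) ^ k = θ (y * a) ^ k
    rw [hθya, hγy]
  have hback : ∀ z ∈ U ⊔ Subgroup.zpowers (y * a), (γ ∘ θ) z ∈ M :=
    isMap_mem_sup hcomp le_sup_left le_sup_right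
      (fun z hz => by
        show γ (θ z) ∈ M
        rw [hγe (hθU.mem hz), autFun_congr hθU e hz]
        exact hM.mem (Subgroup.mem_sup_left (autFun_of_mem e hz ▸ (e _).2)))
      fun z hz => by
        show γ (θ z) ∈ M
        rw [hfixpow z hz]; exact hM.mem (Subgroup.mem_sup_right hz)
  refine ⟨θi ∘ γ ∘ θ, hcomp.comp hθi.1 hback, fun z hz => ?_, fun z hz => ?_⟩
  · simp only [Function.comp_apply]
    rw [hγe (hθU.mem hz), autFun_congr hθU e hz]
    exact hθl _ (Subgroup.mem_sup_left (autFun_of_mem e hz ▸ (e _).2))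
  · simp only [Function.comp_apply]
    rw [hfixpow z hz]
    exact hθl z (Subgroup.mem_sup_right hz)

/-- If `e` fixes `y a` and some smaller centric `X ≥ ⟨a⟩` has an extension fixing `y`, then `e` fixes
`a`. -/
theorem fixes_of_descend (h : NData F E p) {U X : Subgroup Ω} (hUle : U ≤ T) (hXU : X ≤ U) (hXc : E.IsCentric X)
    {y a : Ω} (hy : y ∈ centralizerIn S U) (haX : a ∈ X) {e : MulAut U}
    (he : e ∈ E.autGroup U) (ho : Nat.Coprime (orderOf e) p)
    (hX : autFun e '' (X : Set Ω) = (X : Set Ω))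
    (hUy : ExtendsFix F (Subgroup.zpowers (y * a)) U (autFun e))
    (hXy : ExtendsFix F (Subgroup.zpowers y) X (autFun e)) : autFun e a = a := by
  obtain ⟨g, hg, hge, hgy⟩ := hUy
  obtain ⟨f, hf, hfe, hfy⟩ := hXy
  have hUS : U ≤ S := (le_sup_left : U ≤ _).trans hg.dom_le
  have haU : a ∈ U := hXU haX
  have hyM : y ∈ X ⊔ Subgroup.zpowers y := Subgroup.mem_sup_right (Subgroup.mem_zpowers y)
  have hle : X ⊔ Subgroup.zpowers y ≤ U ⊔ Subgroup.zpowers (y * a) := by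
    refine sup_le (hXU.trans le_sup_left) ((Subgroup.zpowers_le).mpr ?_)
    have h1 : y * a * a⁻¹ ∈ U ⊔ Subgroup.zpowers (y * a) :=
      mul_mem (Subgroup.mem_sup_right (Subgroup.mem_zpowers _))
        (Subgroup.mem_sup_left (inv_mem haU))
    rwa [mul_inv_cancel_right] at h1
  have heX : ∀ {x}, x ∈ X → autFun e x ∈ X := fun hx => hX.subset ⟨_, hx, rfl⟩
  set w := a * (autFun e a)⁻¹ with hw
  have hwX : w ∈ X := mul_mem haX (inv_mem (heX haX))
  have hgyw : g y = y * w := by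
    have h1 : g (y * a) = y * a := hgy _ (Subgroup.mem_zpowers _)
    rw [hg.map_mul (hle hyM) (Subgroup.mem_sup_left haU), hge haU] at h1
    rw [hw, ← mul_assoc, ← h1, mul_inv_cancel_right]
  have hfim : f '' (X : Set Ω) = (X : Set Ω) := (Set.image_congr hfe).trans hX
  have hfiso : IsIso F (X ⊔ Subgroup.zpowers y) (X ⊔ Subgroup.zpowers y) f :=
    IsIso.sup hf hfim ((Set.image_congr hfy).trans (Set.image_id' _))
  obtain ⟨fi, hfi, hfil, -⟩ := hfiso.exists_inv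
  have hgmem : ∀ z ∈ X ⊔ Subgroup.zpowers y, g z ∈ X ⊔ Subgroup.zpowers y := by
    refine isMap_mem_sup (hg.mono hle) le_sup_left le_sup_right
      (fun z hz => Subgroup.mem_sup_left ((hge (hXU hz)).symm ▸ heX hz)) fun z hz => ?_
    obtain ⟨k, rfl⟩ := Subgroup.mem_zpowers_iff.mp hz
    obtain ⟨φ, -, hφ⟩ := id (hg.mono hle)
    rw [← hφ ⟨y ^ k, Subgroup.zpow_mem _ hyM k⟩,
      show (⟨y ^ k, Subgroup.zpow_mem _ hyM k⟩ : ↥(X ⊔ Subgroup.zpowers y)) = ⟨y, hyM⟩ ^ k from rfl,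
      map_zpow, hφ, hgyw]
    exact Subgroup.zpow_mem _ (mul_mem hyM (Subgroup.mem_sup_left hwX)) k
  obtain ⟨w', hw', hw'e⟩ : ∃ w' ∈ X, autFun e w' = w := by
    obtain ⟨w', hw', he'⟩ := hX.ge hwX
    exact ⟨w', hw', he'⟩
  have hδy : (fi ∘ g) y = y * w' := by
    have h1 : f (y * w') = g y := by
      rw [hf.map_mul hyM (Subgroup.mem_sup_left hw'), hfy y (Subgroup.mem_zpowers y), hfe hw', hw'e,
        hgyw]
    rw [Function.comp_apply, ← h1]
    exact hfil _ (mul_mem hyM (Subgroup.mem_sup_left hw'))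
  haveI := h.finiteT
  obtain ⟨eX, heXm, heXe⟩ : ∃ b ∈ E.autGroup X, Set.EqOn (autFun b) (autFun e) X := by
    exact (show IsIso E X X (autFun e) from ⟨((mem_autGroup hUle).mp he).1.mono hXU, hX⟩).exists_aut
  have hfixw : autFun e w' = w' := by
    rw [← heXe hw']
    refine commutator_fixed h hXc ⟨hy.1, Subgroup.centralizer_le hXU hy.2⟩
      ((hg.mono hle).comp hfi.1 hgmem) (fun x hx => ?_) hw' hδy heXm
    rw [Function.comp_apply, hge (hXU hx), ← hfe hx]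
    exact hfil x (Subgroup.mem_sup_left hx)
  have hwe : autFun e w = w := by
    have := hw'e
    rw [hfixw] at this
    rw [← this]; exact hfixw
  have hea : autFun e a = w⁻¹ * a := by rw [hw]; group
  have hpow : ∀ n : ℕ, autFun (e ^ n) a = w⁻¹ ^ n * a := by
    intro n
    induction n with
    | zero => rw [pow_zero, autFun_one haU]; simp
    | succ n ih =>
      rw [pow_succ, autFun_mul _ _ haU, Function.comp_apply, hea]
      have hwU : w⁻¹ ∈ U := inv_mem (hXU hwX)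
      rw [autFun_of_mem _ (mul_mem hwU haU),
        show (⟨w⁻¹ * a, mul_mem hwU haU⟩ : U) = ⟨w⁻¹, hwU⟩ * ⟨a, haU⟩ from rfl, map_mul,
        Subgroup.coe_mul, ← autFun_of_mem _ hwU, ← autFun_of_mem _ haU, ih, pow_succ']
      have hfix : ∀ m : ℕ, autFun (e ^ m) w⁻¹ = w⁻¹ := by
        intro m
        induction m with
        | zero => rw [pow_zero, autFun_one hwU]; rfl
        | succ m ihm =>
          rw [pow_succ, autFun_mul _ _ hwU, Function.comp_apply]
          have : autFun e w⁻¹ = w⁻¹ := by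
            rw [autFun_of_mem e hwU,
              show (⟨w⁻¹, hwU⟩ : U) = ⟨w, hXU hwX⟩⁻¹ from rfl, map_inv, Subgroup.coe_inv,
              ← autFun_of_mem e (hXU hwX), hwe]
          rw [this, ihm]
      rw [hfix, mul_assoc]
  have h1 := hpow (orderOf e)
  rw [pow_orderOf_eq_one, autFun_one haU, id_eq, eq_comm, mul_eq_right] at h1
  obtain ⟨k, hk⟩ := h.pgroup ⟨w⁻¹, inv_mem (hUS (hXU hwX))⟩
  have h3 : w⁻¹ = 1 := orderOf_eq_one_iff.mp (Nat.eq_one_of_dvd_coprimes (ho.pow_right k)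
    (orderOf_dvd_of_pow_eq_one h1) (orderOf_dvd_of_pow_eq_one (congrArg Subtype.val hk)))
  rw [hea, h3, one_mul]

end Cfsg.Agent.Fus93.FixCentre
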